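import Cfsg.Agent.Lib.Lie.BoundedPres.AltCopy

/-!
# One copy of `A_{p+2}` from four relations

With `c³` and `r^p` tied together by one relation `r^p = c^{-3}`, the affine relations kill the common value.
-/

set_option autoImplicit false

namespace CfsgLib.Lie.BoundedPres

open Equiv Equiv.Perm

/-- the affine data on `Fin k` -/
structure AffData (k : ℕ) where
  R : Perm (Fin k)
  S : Perm (Fin k)
  i0 : Fin k
  N : ℕ
  a0 : ℕ
  hR : sign R = 1
  hS : S i0 = i0
  hSR : S * R * S⁻¹ = R ^ N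
  hRk : R ^ k = 1
  hne : R i0 ≠ i0
  hcov : ∀ i, ∃ a, (R ^ a) i0 = i
  huniq : ∀ a b, (R ^ a) i0 = (R ^ b) i0 → a ≡ b [MOD k]
  hpair : ∀ i j : Fin k, i ≠ j → ∃ a b : ℕ, (R ^ a * S ^ b) i0 = i ∧ (R ^ a * S ^ b) (R i0) = j
  hN : N * a0 + 1 ≡ a0 [MOD k]
  ha0 : ∃ b, a0 * b ≡ 1 [MOD k]

namespace AffData

variable {k : ℕ} (D : AffData k)

/-- the power of the translation reaching a point -/
noncomputable def idx (i : Fin k) : ℕ := (D.hcov i).choose

theorem idx_spec (i : Fin k) : (D.R ^ D.idx i) D.i0 = i := (D.hcov i).choose_spec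

/-- the three-cycle at a point, from the one at the base point -/
noncomputable def fam {G : Type*} [Group G] (r c : G) (i : Fin k) : G := r ^ D.idx i * c * (r ^ D.idx i)⁻¹

theorem map_fam {G H : Type*} [Group G] [Group H] (f : G →* H) (r c : G) (i : Fin k) :
    f (D.fam r c i) = D.fam (f r) (f c) i := by simp [fam]

theorem fam_model (i : Fin k) : D.fam (evenExt D.R) (cyc D.i0) i = cyc i := by
  rw [fam, ← map_pow, evenExt_cyc, map_pow, D.hR, one_pow, Units.val_one, zpow_one, D.idx_spec]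

/-- a word for an element of the copy -/
noncomputable def word (x : alternatingGroup (Pt k)) : FreeGroup (Fin k) :=
  (show ∃ v, FreeGroup.lift (cyc (m := k)) v = x by
    have : (FreeGroup.lift (cyc (m := k))).range = ⊤ := by
      rw [FreeGroup.range_lift_eq_closure, closure_cyc]
    exact (this ▸ Subgroup.mem_top x : x ∈ (FreeGroup.lift (cyc (m := k))).range)).choose

theorem word_spec (x : alternatingGroup (Pt k)) : FreeGroup.lift (cyc (m := k)) (word x) = x :=
  (show ∃ v, FreeGroup.lift (cyc (m := k)) v = x by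
    have : (FreeGroup.lift (cyc (m := k))).range = ⊤ := by
      rw [FreeGroup.range_lift_eq_closure, closure_cyc]
    exact (this ▸ Subgroup.mem_top x : x ∈ (FreeGroup.lift (cyc (m := k))).range)).choose_spec

/-- the value of an element of the copy on given generators -/
noncomputable def val {G : Type*} [Group G] (r c : G) (x : alternatingGroup (Pt k)) : G :=
  FreeGroup.lift (D.fam r c) (word x)

theorem map_val {G H : Type*} [Group G] [Group H] (f : G →* H) (r c : G) (x : alternatingGroup (Pt k)) :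
    f (D.val r c x) = D.val (f r) (f c) x := by
  rw [val, ← lift_comp_hom]
  simp only [map_fam]
  rfl

theorem val_eq_hom {G : Type*} [Group G] {r c : G} (φ : alternatingGroup (Pt k) →* G)
    (h : ∀ i, φ (cyc i) = D.fam r c i) (x : alternatingGroup (Pt k)) : D.val r c x = φ x := by
  conv_rhs => rw [← word_spec x, ← lift_comp_hom]
  simp only [h]
  rfl

theorem val_model (x : alternatingGroup (Pt k)) : D.val (evenExt D.R) (cyc D.i0) x = x :=
  D.val_eq_hom (MonoidHom.id _) (fun i => (D.fam_model i).symm) x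

/-- the copy and how the translation and the multiplication act on it -/
theorem exists_hom {G : Type*} [Group G] {r s c : G} (h3 : c ^ 3 = 1) (hP : r ^ k = 1)
    (hsr : s * r * s⁻¹ = r ^ D.N) (hsc : s * c * s⁻¹ = c ^ ((sign D.S : ℤˣ) : ℤ))
    (hcc : (c * (r * c * r⁻¹)) ^ 2 = 1) :
    ∃ φ : alternatingGroup (Pt k) →* G, (∀ i, φ (cyc i) = D.fam r c i) ∧ φ (cyc D.i0) = c ∧
      (∀ i, r * φ (cyc i) * r⁻¹ = φ (cyc (D.R i))) ∧
      ∀ x, s * φ x * s⁻¹ = φ (evenExt D.S * x * (evenExt D.S)⁻¹) := by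
  classical
  let y : Fin k → G := D.fam r c
  have hy : ∀ b : ℕ, r ^ b * c * (r ^ b)⁻¹ = y ((D.R ^ b) D.i0) := fun b => by
    have e : r ^ b = r ^ D.idx ((D.R ^ b) D.i0) :=
      pow_eq_pow_iff_modEq.2 ((D.huniq b _ (D.idx_spec _).symm).of_dvd (orderOf_dvd_of_pow_eq_one hP))
    simp only [y, fam, e]
  have hy3 : ∀ i, y i ^ 3 = 1 := fun i => by simp [y, fam, conj_pow, h3]
  have hrconj : ∀ i, r * y i * r⁻¹ = y (D.R i) := fun i => by
    rw [show D.R i = (D.R ^ (1 + D.idx i)) D.i0 by rw [pow_add, pow_one, Perm.mul_apply, D.idx_spec],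
      ← hy, pow_add, pow_one]
    simp only [y, fam]; group
  have hsN : ∀ b : ℕ, s * r ^ b * s⁻¹ = r ^ (D.N * b) := fun b => by
    rw [← conj_pow, hsr, ← pow_mul]
  have hsconj : ∀ i, s * y i * s⁻¹ = y (D.S i) ^ ((sign D.S : ℤˣ) : ℤ) := fun i => by
    have e : D.S i = (D.R ^ (D.N * D.idx i)) D.i0 := by
      calc D.S i = (D.S * D.R ^ D.idx i) D.i0 := by rw [Perm.mul_apply, D.idx_spec]
        _ = (D.R ^ (D.N * D.idx i) * D.S) D.i0 := by rw [pow_mul, ← D.hSR, conj_pow]; group
        _ = (D.R ^ (D.N * D.idx i)) D.i0 := by rw [Perm.mul_apply, D.hS]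
    rw [e, ← hy, conj_zpow, ← hsN, ← hsc]
    simp only [y, fam]; group
  have htrans : ∀ (b e : ℕ) (i : Fin k), (r ^ b * s ^ e) * y i * (r ^ b * s ^ e)⁻¹ =
      y ((D.R ^ b * D.S ^ e) i) ^ (((sign D.S) ^ e : ℤˣ) : ℤ) := by
    intro b e i
    have h1 : ∀ e : ℕ, s ^ e * y i * (s ^ e)⁻¹ = y ((D.S ^ e) i) ^ (((sign D.S) ^ e : ℤˣ) : ℤ) := by
      intro e
      induction e with
      | zero => simp
      | succ e ih =>
        rw [pow_succ', pow_succ', pow_succ', Units.val_mul, zpow_mul, Perm.mul_apply,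
          show s * s ^ e * y i * (s * s ^ e)⁻¹ = s * (s ^ e * y i * (s ^ e)⁻¹) * s⁻¹ by group, ih,
          ← conj_zpow, hsconj]
    have h2 : ∀ (b : ℕ) (l : Fin k), r ^ b * y l * (r ^ b)⁻¹ = y ((D.R ^ b) l) := by
      intro b
      induction b with
      | zero => simp
      | succ b ih =>
        intro l
        rw [pow_succ', show r * r ^ b * y l * (r * r ^ b)⁻¹ = r * (r ^ b * y l * (r ^ b)⁻¹) * r⁻¹ by
          group, ih, hrconj, pow_succ', Perm.mul_apply]
    rw [Perm.mul_apply, ← h2, conj_zpow, ← h1]; group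
  have hc0 : y D.i0 = c := by
    have := hy 0
    simpa using this.symm
  have hbase : (y D.i0 * y (D.R D.i0)) ^ 2 = 1 := by
    rw [hc0, ← hrconj, hc0]; exact hcc
  have hpairs : ∀ i j, i ≠ j → (y i * y j) ^ 2 = 1 := by
    intro i j hij
    obtain ⟨b, e, h1, h2⟩ := D.hpair i j hij
    refine sq_conj_unit ((sign D.S) ^ e) (g := r ^ b * s ^ e) ?_ ?_ hbase
    · rw [htrans, h1]
    · rw [htrans, h2]
  obtain ⟨φ, hφ⟩ := exists_alt_hom (Nat.one_le_iff_ne_zero.2 fun h => by subst h; exact D.i0.elim0) y hy3 hpairs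
  refine ⟨φ, hφ, by rw [hφ, hc0], fun i => by rw [hφ, hφ, hrconj], fun x => ?_⟩
  have e : (MulAut.conj s).toMonoidHom.comp φ = φ.comp (MulAut.conj (evenExt D.S)).toMonoidHom :=
    MonoidHom.eq_of_eqOn_dense (closure_cyc k) (by
      rintro _ ⟨i, rfl⟩
      show s * φ (cyc i) * s⁻¹ = φ (evenExt D.S * cyc i * (evenExt D.S)⁻¹)
      rw [evenExt_cyc, map_zpow, hφ, hφ, hsconj])
  exact DFunLike.congr_fun e x

end AffData

/-- two elements with central cube and product of order two -/
theorem cube_pow_eight {G : Type*} [Group G] {a b : G} (hb : b ^ 3 = a ^ 3) (hab : (a * b) ^ 2 = 1) :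
    (a ^ 3) ^ 8 = 1 := by
  set z := a ^ 3 with hz
  set t := a * b with ht
  have hbt : b = a⁻¹ * t := by rw [ht]; group
  have cza : Commute z a := (Commute.refl a).pow_left 3
  have czb : Commute z b := by rw [← hb]; exact (Commute.refl b).pow_left 3
  have czt : Commute z t := cza.mul_right czb
  let t0 := t
  let t1 := a⁻¹ * t * a
  let t2 := a⁻¹ * a⁻¹ * t * a * a
  have tt : t * t = 1 := by rw [← sq]; exact hab
  have e2 : t2 * t2 = 1 := by
    show a⁻¹ * a⁻¹ * t * a * a * (a⁻¹ * a⁻¹ * t * a * a) = 1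
    calc _ = a⁻¹ * a⁻¹ * (t * t) * a * a := by group
      _ = 1 := by rw [tt]; group
  have h3 : t * a⁻¹ * a⁻¹ * a⁻¹ = z⁻¹ * t := by
    rw [show t * a⁻¹ * a⁻¹ * a⁻¹ = t * z⁻¹ by rw [hz]; group, czt.inv_left.eq]
  have p0 : t1 * t2 * t0 = z * z := by
    have h : b * b * b = z := by rw [← hb]; simp [pow_succ, mul_assoc]
    have ez : a * a * a = z := by rw [hz]; simp [pow_succ, mul_assoc]
    calc t1 * t2 * t0 = a⁻¹ * t * a⁻¹ * t * a * a * t := by simp only [t0, t1, t2]; group
      _ = a⁻¹ * t * a⁻¹ * t * a⁻¹ * ((a * a * a) * t) := by group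
      _ = a⁻¹ * t * a⁻¹ * t * a⁻¹ * (t * z) := by rw [ez, czt.eq]
      _ = (b * b * b) * z := by rw [hbt]; group
      _ = z * z := by rw [h]
  have conj : ∀ x y w : G, a⁻¹ * (x * y * w) * a = (a⁻¹ * x * a) * (a⁻¹ * y * a) * (a⁻¹ * w * a) :=
    fun x y w => by group
  have hzz : a⁻¹ * (z * z) * a = z * z := by
    rw [show a⁻¹ * (z * z) * a = a⁻¹ * (z * z * a) by group, ((cza.mul_left cza)).eq]; group
  have c1 : a⁻¹ * t0 * a = t1 := rfl
  have c2 : a⁻¹ * t1 * a = t2 := by simp only [t1, t2]; group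
  have c0 : a⁻¹ * t2 * a = t0 := by
    have ez : a * a * a = z := by rw [hz]; simp [pow_succ, mul_assoc]
    calc a⁻¹ * t2 * a = (a * a * a)⁻¹ * t * (a * a * a) := by simp only [t2]; group
      _ = t := by rw [ez, mul_assoc, ← czt.eq, inv_mul_cancel_left]
  have p1 : t2 * t0 * t1 = z * z := by
    have := congrArg (fun x => a⁻¹ * x * a) p0
    simp only [conj, c1, c2, c0, hzz] at this
    exact this
  have cz2 : ∀ x : G, Commute (z * z) x → Commute (z * z)⁻¹ x := fun x h => h.inv_left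
  have k2 : Commute (z * z) t2 := by
    have : Commute z t2 := by
      refine Commute.mul_right (Commute.mul_right (Commute.mul_right (Commute.mul_right ?_ ?_) czt) cza) cza <;>
        exact cza.inv_right
    exact this.mul_left this
  have k0 : Commute (z * z) t0 := czt.mul_left czt
  -- both products express `t1`
  have a1 : t1 = (z * z) * t0 * t2 := by
    calc t1 = (t1 * t2 * t0) * (t0 * t2) := by
          calc t1 = t1 * (t2 * t2) := by rw [e2, mul_one]
            _ = t1 * t2 * (t * t) * t2 := by rw [tt, mul_one]; group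
            _ = _ := by simp only [t0]; group
      _ = _ := by rw [p0]; group
  have a2 : t1 = t0 * t2 * (z * z) := by
    calc t1 = t * t * t1 := by rw [tt, one_mul]
      _ = t0 * (t2 * t2) * t0 * t1 := by rw [e2, mul_one]
      _ = t0 * t2 * (t2 * t0 * t1) := by group
      _ = _ := by rw [p1]
  have e1 : t1 * t1 = 1 := by
    show a⁻¹ * t * a * (a⁻¹ * t * a) = 1
    calc _ = a⁻¹ * (t * t) * a := by group
      _ = 1 := by rw [tt]; group
  -- the square of `t0 * t2`, written through `t1`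
  have u : (t0 * t2) * (t0 * t2) * (z * z * (z * z)) = 1 := by
    conv_rhs => rw [← e1]
    nth_rewrite 1 [a2]
    rw [a1]
    have h := (k0.mul_right k2).eq
    calc t0 * t2 * (t0 * t2) * (z * z * (z * z)) = t0 * t2 * ((t0 * t2) * (z * z)) * (z * z) := by group
      _ = t0 * t2 * ((z * z) * (t0 * t2)) * (z * z) := by rw [h]
      _ = t0 * t2 * (z * z) * ((t0 * t2) * (z * z)) := by group
      _ = t0 * t2 * (z * z) * (z * z * t0 * t2) := by rw [← h]; group
  have v : (t0 * t2) * (t0 * t2) = z * z * (z * z) := by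
    -- moving the identity of the cyclic shift one step
    have p2 : t0 * t1 * t2 = z * z := by
      have := congrArg (fun x => a⁻¹ * x * a) p1
      simp only [conj, c1, c2, c0, hzz] at this
      exact this
    have q : t1 = t0 * (z * z) * t2 := by
      calc t1 = (t * t) * t1 * (t2 * t2) := by rw [tt, e2, one_mul, mul_one]
        _ = t0 * (t0 * t1 * t2) * t2 := by simp only [t0]; group
        _ = _ := by rw [p2]
    have r : t1 = (z * z)⁻¹ * t2 * t0 := by
      calc t1 = t1⁻¹ := (inv_eq_of_mul_eq_one_right e1).symm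
        _ = (t0 * t2 * (z * z))⁻¹ := by rw [← a2]
        _ = (z * z)⁻¹ * t2⁻¹ * t0⁻¹ := by group
        _ = _ := by rw [inv_eq_of_mul_eq_one_right e2, inv_eq_of_mul_eq_one_right (show t0 * t0 = 1 from tt)]
    have s : t2 * t0 = (z * z * (z * z)) * (t0 * t2) := by
      calc t2 * t0 = (z * z) * t1 := by rw [r]; group
        _ = _ := by rw [a1]; group
    calc t0 * t2 * (t0 * t2) = t0 * (t2 * t0) * t2 := by group
      _ = t0 * (z * z * (z * z)) * (t0 * (t2 * t2)) := by rw [s]; group
      _ = (z * z * (z * z)) * (t * t) := by rw [e2, mul_one, ← (k0.mul_left k0).eq]; simp only [t0]; group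
      _ = _ := by rw [tt, mul_one]
  rw [v] at u
  simpa [pow_succ, mul_assoc] using u

end CfsgLib.Lie.BoundedPres
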