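import Mathlib

/-!
# Two primes between a number and its double

Erdős' bound on the central binomial coefficient has one factor `2n` to spare, because `1` is not a prime.
-/

set_option autoImplicit false

namespace CfsgLib.Lie.BoundedPres

open Nat

theorem centralBinom_le_of_one_prime (n q : ℕ) (hn : 2 < n)
    (h : ∀ p : ℕ, p.Prime → n < p → p ≤ 2 * n → p = q) :
    centralBinom n ≤ (2 * n) ^ sqrt (2 * n) * 4 ^ (2 * n / 3) := by
  classical
  let f : ℕ → ℕ := fun x => x ^ n.centralBinom.factorization x
  have f2 : ∀ x, f x ≤ 2 * n := fun x => pow_factorization_choose_le (by omega)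
  have f1 : ∀ x, x = 0 ∨ 1 ≤ f x := fun x => by
    rcases eq_or_ne x 0 with rfl | hx
    · exact Or.inl rfl
    · exact Or.inr (Nat.one_le_pow _ _ (Nat.pos_of_ne_zero hx))
  set S := {p ∈ Finset.range (2 * n / 3 + 1) | Nat.Prime p} with hS
  set I := insert q (Finset.range (2 * n + 1)) with hI
  have hone : ∀ x ∈ I, x ∉ insert q S → f x = 1 := by
    intro x hx hx2
    simp only [hI, Finset.mem_insert, Finset.mem_range] at hx
    simp only [Finset.mem_insert, hS, Finset.mem_filter, Finset.mem_range, not_or, not_and] at hx2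
    obtain ⟨hxq, hx3⟩ := hx2
    by_cases hp : x.Prime
    · have h3 : ¬ x < 2 * n / 3 + 1 := fun h' => hx3 h' hp
      have hxn : x ≤ n := by
        by_contra hc
        exact hxq (h x hp (by omega) (by omega))
      have := factorization_centralBinom_of_two_mul_self_lt_three_mul (p := x) hn hxn (by omega)
      simp only [f, this, _root_.pow_zero]
    · simp only [f, factorization_eq_zero_of_not_prime n.centralBinom hp, _root_.pow_zero]
  have e1 : centralBinom n = ∏ x ∈ insert q S, f x := by
    have a : ∏ x ∈ Finset.range (2 * n + 1), f x = ∏ x ∈ I, f x :=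
      Finset.prod_subset (Finset.subset_insert _ _) fun x hx hx2 => by
        simp only [Finset.mem_range, not_lt] at hx2
        have : n.centralBinom.factorization x = 0 :=
          factorization_centralBinom_eq_zero_of_two_mul_lt (by omega)
        simp [f, this]
    rw [Finset.prod_subset (s₁ := insert q S) (s₂ := I) ?_ hone, ← a]
    · exact n.prod_pow_factorization_centralBinom.symm
    · refine Finset.insert_subset_insert _ fun x hx => ?_
      simp only [hS, Finset.mem_filter, Finset.mem_range] at hx ⊢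
      omega
  have e2 : ∏ x ∈ insert q S, f x ≤ 2 * n * ∏ x ∈ S, f x := by
    by_cases hq : q ∈ S
    · rw [Finset.insert_eq_of_mem hq]
      exact le_mul_of_one_le_left (Nat.zero_le _) (by omega)
    · rw [Finset.prod_insert hq]
      exact Nat.mul_le_mul_right _ (f2 q)
  have e3 : ∏ x ∈ S, f x ≤ (2 * n) ^ (sqrt (2 * n) - 1) * 4 ^ (2 * n / 3) := by
    rw [← Finset.prod_filter_mul_prod_filter_not S (· ≤ sqrt (2 * n))]
    apply Nat.mul_le_mul
    · refine (Finset.prod_le_prod' fun p _ => f2 p).trans ?_
      rw [Finset.prod_const]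
      refine pow_right_mono₀ (by omega) ?_
      refine (Finset.card_le_card (t := Finset.Icc 2 (sqrt (2 * n))) fun x hx => ?_).trans ?_
      · obtain ⟨h1, h2⟩ := Finset.mem_filter.1 hx
        exact Finset.mem_Icc.mpr ⟨(Finset.mem_filter.1 h1).2.two_le, h2⟩
      · rw [Nat.card_Icc]; omega
    · refine le_trans ?_ (primorial_le_four_pow (2 * n / 3))
      refine (Finset.prod_le_prod' fun p hp => (?_ : f p ≤ p)).trans ?_
      · obtain ⟨h1, h2⟩ := Finset.mem_filter.1 hp
        refine (pow_right_mono₀ (Finset.mem_filter.1 h1).2.one_lt.le ?_).trans (pow_one p).le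
        exact Nat.factorization_choose_le_one (sqrt_lt'.mp <| not_le.1 h2)
      refine Finset.prod_le_prod_of_subset_of_one_le' (Finset.filter_subset _ _) ?_
      exact fun p hp _ => (Finset.mem_filter.1 hp).2.one_lt.le
  have hs : 1 ≤ sqrt (2 * n) := Nat.le_sqrt.2 (by omega)
  calc centralBinom n = ∏ x ∈ insert q S, f x := e1
    _ ≤ 2 * n * ∏ x ∈ S, f x := e2
    _ ≤ 2 * n * ((2 * n) ^ (sqrt (2 * n) - 1) * 4 ^ (2 * n / 3)) := Nat.mul_le_mul_left _ e3
    _ = (2 * n) ^ sqrt (2 * n) * 4 ^ (2 * n / 3) := by
      rw [← mul_assoc, ← _root_.pow_succ', Nat.sub_add_cancel hs]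

/-- a prime in `(n, 2n]` other than a given number -/
theorem exists_prime_ne (n q : ℕ) (hn : 512 ≤ n) : ∃ p, p.Prime ∧ n < p ∧ p ≤ 2 * n ∧ p ≠ q := by
  by_contra hc
  push_neg at hc
  have := Nat.four_pow_lt_mul_centralBinom n (by omega)
  have h2 := Nat.mul_le_mul_left n (centralBinom_le_of_one_prime n q (by omega) hc)
  have h3 := bertrand_main_inequality hn
  rw [← mul_assoc] at h2
  omega

theorem small_step {n : ℕ} (lo : ℕ) {p : ℕ} (hp : p.Prime) (hlo : p ≤ 2 * lo)
    (h : n < lo → ∃ p : ℕ, p.Prime ∧ n + 1 < p ∧ p ≤ 2 * n) (hn : n + 1 < p) :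
    ∃ p : ℕ, p.Prime ∧ n + 1 < p ∧ p ≤ 2 * n := by
  rcases Nat.lt_or_ge n lo with h' | h'
  · exact h h'
  · exact ⟨p, hp, hn, by omega⟩

/-- a prime strictly between `n + 1` and `2n` -/
theorem exists_prime_between (n : ℕ) (hn : 3 ≤ n) : ∃ p, p.Prime ∧ n + 1 < p ∧ p ≤ 2 * n := by
  rcases Nat.lt_or_ge n 512 with h | h
  · refine small_step 387 (p := 773) (by norm_num) (by omega) (fun h => ?_) (by omega)
    refine small_step 195 (p := 389) (by norm_num) (by omega) (fun h => ?_) (by omega)
    refine small_step 99 (p := 197) (by norm_num) (by omega) (fun h => ?_) (by omega)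
    refine small_step 51 (p := 101) (by norm_num) (by omega) (fun h => ?_) (by omega)
    refine small_step 27 (p := 53) (by norm_num) (by omega) (fun h => ?_) (by omega)
    refine small_step 16 (p := 31) (by norm_num) (by omega) (fun h => ?_) (by omega)
    refine small_step 10 (p := 19) (by norm_num) (by omega) (fun h => ?_) (by omega)
    refine small_step 7 (p := 13) (by norm_num) (by omega) (fun h => ?_) (by omega)
    refine small_step 6 (p := 11) (by norm_num) (by omega) (fun h => ?_) (by omega)
    refine small_step 4 (p := 7) (by norm_num) (by omega) (fun h => ?_) (by omega)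
    exact ⟨5, by norm_num, by omega, by omega⟩
  · obtain ⟨p, hp, h1, h2, h3⟩ := exists_prime_ne (n + 1) (2 * n + 1) (by omega)
    have : p ≠ 2 * (n + 1) := fun e => Nat.not_prime_mul (by omega) (by omega) (e ▸ hp)
    exact ⟨p, hp, h1, by omega⟩

end CfsgLib.Lie.BoundedPres
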