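import Cfsg.Agent.Lib.Lie.BoundedPres.Alt.TwoCopy

/-!
# The seven relations hold for the permutations they describe
-/

set_option autoImplicit false

namespace CfsgLib.Lie.BoundedPres

open Equiv Equiv.Perm

namespace TwoCfg

variable {p m L L₁ : ℕ} (C : TwoCfg p m L L₁)

/-- the exchange as a product of transpositions -/
theorem prod_swaps (l : List (Fin L₁)) (hl : l.Nodup) :
    (l.map fun b => swap (C.e1 (C.eD b)) (C.f (C.e1 (C.eD b)))).prod =
      (l.map fun b => swap (C.e1 (C.eD b)) (C.f (C.e1 (C.eD b)))).prod ∧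
    (∀ b, b ∈ l → (l.map fun b => swap (C.e1 (C.eD b)) (C.f (C.e1 (C.eD b)))).prod (C.e1 (C.eD b)) =
        C.f (C.e1 (C.eD b)) ∧
      (l.map fun b => swap (C.e1 (C.eD b)) (C.f (C.e1 (C.eD b)))).prod (C.f (C.e1 (C.eD b))) = C.e1 (C.eD b)) ∧
    ∀ j, (∀ b ∈ l, j ≠ C.e1 (C.eD b) ∧ j ≠ C.f (C.e1 (C.eD b))) →
      (l.map fun b => swap (C.e1 (C.eD b)) (C.f (C.e1 (C.eD b)))).prod j = j := by
  refine ⟨rfl, ?_⟩
  induction l with
  | nil => simp
  | cons b l ih =>
    obtain ⟨hb, hl⟩ := List.nodup_cons.1 hl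
    obtain ⟨h1, h2⟩ := ih hl
    have dist : ∀ b', b' ≠ b → C.e1 (C.eD b') ≠ C.e1 (C.eD b) ∧ C.f (C.e1 (C.eD b')) ≠ C.f (C.e1 (C.eD b)) :=
      fun b' hb' => ⟨fun e => hb' (C.eD.injective (C.e1.injective e)),
        fun e => hb' (C.eD.injective (C.e1.injective (C.f.injective e)))⟩
    refine ⟨fun b' hb' => ?_, fun j hj => ?_⟩
    · rw [List.map_cons, List.prod_cons, Perm.mul_apply, Perm.mul_apply]
      rcases List.mem_cons.1 hb' with rfl | hb'
      · have o1 := h2 (C.e1 (C.eD b')) fun x hx =>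
          ⟨fun e => (dist x (fun e' => hb (e' ▸ hx))).1 e.symm, fun e => C.out x _ e.symm⟩
        have o2 := h2 (C.f (C.e1 (C.eD b'))) fun x hx =>
          ⟨fun e => C.out b' _ e, fun e => (dist x (fun e' => hb (e' ▸ hx))).2 e.symm⟩
        rw [o1, o2, swap_apply_left, swap_apply_right]
        exact ⟨rfl, rfl⟩
      · have hne : b' ≠ b := fun e => hb (e ▸ hb')
        rw [(h1 b' hb').1, (h1 b' hb').2,
          swap_apply_of_ne_of_ne (C.out b' _) (dist b' hne).2,
          swap_apply_of_ne_of_ne (dist b' hne).1 (fun e => C.out b _ e.symm)]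
        exact ⟨rfl, rfl⟩
    · rw [List.map_cons, List.prod_cons, Perm.mul_apply, h2 j fun x hx => hj x (List.mem_cons_of_mem _ hx)]
      exact swap_apply_of_ne_of_ne (hj b List.mem_cons_self).1 (hj b List.mem_cons_self).2

theorem f_eq :
    viaEmbedding C.π C.e1 * ((List.finRange L₁).map fun b => swap (C.e1 (C.eD b)) (C.f (C.e1 (C.eD b)))).prod
      = C.f := by
  obtain ⟨-, h1, h2⟩ := C.prod_swaps (List.finRange L₁) (List.nodup_finRange _)
  refine Equiv.ext fun j => ?_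
  rw [Perm.mul_apply]
  rcases C.cover j with ⟨i, rfl⟩ | ⟨b, rfl⟩
  · rcases C.split i with ⟨a, rfl⟩ | ⟨b, rfl⟩
    · rw [h2 _ fun x _ => ⟨fun e => C.disj a x (C.e1.injective e), fun e => C.out x _ e.symm⟩,
        viaEmbedding_apply, C.hfC]
    · rw [(h1 b (List.mem_finRange b)).1, viaEmbedding_apply_of_notMem]
      rintro ⟨i, hi⟩
      exact C.out b i hi.symm
  · rw [(h1 b (List.mem_finRange b)).2, viaEmbedding_apply, C.hπD, C.hf]

theorem sign_f : sign C.f = (-1) ^ L₁ * sign C.π := by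
  conv_lhs => rw [← C.f_eq]
  rw [map_mul, sign_viaEmb, map_list_prod, List.map_map, mul_comm]
  congr 1
  rw [List.prod_eq_pow_card _ (-1)]
  · simp
  · intro u hu
    obtain ⟨b, -, rfl⟩ := List.mem_map.1 hu
    exact sign_swap fun e => C.out b _ e.symm

/-- the second embedding -/
def e2 : Fin p ↪ Fin m := C.e1.trans C.f.toEmbedding

theorem f_mul_self : C.f * C.f = 1 := Equiv.ext C.hf

theorem f_conj_viaEmb (g : Perm (Fin p)) : C.f * viaEmbedding g C.e1 * C.f = viaEmbedding g C.e2 := by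
  symm
  refine viaEmb_ext _ _ _ (fun i => ?_) fun j hj => ?_
  · simp [e2, C.hf, viaEmbedding_apply]
  · simp only [Perm.mul_apply]
    rw [viaEmbedding_apply_of_notMem, C.hf]
    rintro ⟨i, hi⟩
    exact hj i (by simp [e2, hi, C.hf])

theorem viaEmb_sC : C.f * viaEmbedding C.sC C.e1 * C.f = viaEmbedding (C.π * C.sC * C.π) C.e1 := by
  rw [f_conj_viaEmb]
  refine viaEmb_ext _ _ _ (fun i => ?_) fun j hj => ?_
  · rcases C.split i with ⟨a, rfl⟩ | ⟨b, rfl⟩
    · show viaEmbedding (C.π * C.sC * C.π) C.e1 (C.f (C.e1 _)) = C.f (C.e1 _)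
      rw [C.hfC, viaEmbedding_apply, C.sC_apply, Perm.mul_apply, Perm.mul_apply, C.hπ, C.sC_apply, C.hfC]
    · show viaEmbedding (C.π * C.sC * C.π) C.e1 (C.f (C.e1 _)) = C.f (C.e1 _)
      rw [viaEmbedding_apply_of_notMem _ _ _ (fun ⟨i, hi⟩ => C.out b i hi.symm), C.sC_fix]
  · rcases C.cover j with ⟨i, rfl⟩ | ⟨b, rfl⟩
    · rcases C.split i with ⟨a, rfl⟩ | ⟨b, rfl⟩
      · obtain ⟨a', ha'⟩ := C.π_mem a
        refine absurd (?_ : C.e2 (C.eC a') = C.e1 (C.eC a)) (hj _)
        show C.f (C.e1 _) = _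
        rw [C.hfC, ← ha', C.hπ]
      · rw [viaEmbedding_apply]
        simp [C.hπD, C.sC_fix]
    · exact absurd rfl (hj (C.eD b))

/-- the model map of the first copy -/
noncomputable def Φ : alternatingGroup (Pt p) →* Perm (Pt m) :=
  (alternatingGroup (Pt m)).subtype.comp (altMap C.e1)

theorem Φ_evenExt (g : Perm (Fin p)) :
    C.Φ (evenExt g) = (evenExt (viaEmbedding g C.e1) : Perm (Pt m)) := by
  show ((altMap C.e1 (evenExt g) : alternatingGroup (Pt m)) : Perm (Pt m)) = _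
  rw [altMap_evenExt]

theorem Φ_cyc (i : Fin p) : C.Φ (cyc i) = (cyc (C.e1 i) : Perm (Pt m)) := by
  show ((altMap C.e1 (cyc i) : alternatingGroup (Pt m)) : Perm (Pt m)) = _
  rw [altMap_cyc]

variable {zM : Perm (Pt m)}

/-- the third generator -/
noncomputable def wM (zM : Perm (Pt m)) : Perm (Pt m) := C.Φ (cyc C.i0) * zM

theorem wM_spec (hzz : zM * zM = 1)
    (hzc : ∀ j, zM * (cyc j : Perm (Pt m)) * zM = (cyc (C.f j) : Perm (Pt m))) :
    cw (C.wM zM) = C.Φ (cyc C.i0) ∧ zw (C.wM zM) = zM := by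
  set c := C.Φ (cyc C.i0) with hc
  have hi : zM⁻¹ = zM := inv_eq_of_mul_eq_one_right hzz
  have hcz : Commute zM c := by
    show zM * c = c * zM
    rw [← mul_inv_eq_iff_eq_mul, hi, hc, C.Φ_cyc, hzc, C.hi0, C.hfC, ← C.hi0, C.hπ0]
  have hc3 : c ^ 3 = 1 := by rw [hc, ← map_pow, cyc_cube, map_one]
  constructor
  · rw [cw, wM, ← hc, (hcz.symm).mul_pow, sq zM, hzz, mul_one]
    refine inv_eq_of_mul_eq_one_right ?_
    rw [← pow_succ, hc3]
  · rw [zw, wM, ← hc, (hcz.symm).mul_pow, hc3, one_mul, pow_succ, sq, hzz, one_mul]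

theorem eqs_model (even : Bool) (hzz : zM * zM = 1)
    (hzc : ∀ j, zM * (cyc j : Perm (Pt m)) * zM = (cyc (C.f j) : Perm (Pt m)))
    (hzE : ∀ h : Perm (Fin m), zM * (evenExt h : Perm (Pt m)) * zM = (evenExt (C.f * h * C.f) : Perm (Pt m)))
    (hev : even = true → zM = (evenExt C.f : Perm (Pt m))) :
    ∀ e ∈ C.eqs even (C.Φ (evenExt C.R)) (C.Φ (evenExt C.S)) (C.wM zM), e.1 = e.2 := by
  obtain ⟨hcw, hzw⟩ := C.wM_spec hzz hzc
  set r := C.Φ (evenExt C.R) with hr
  set s := C.Φ (evenExt C.S) with hs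
  set w := C.wM zM
  have hi : zM⁻¹ = zM := inv_eq_of_mul_eq_one_right hzz
  have hv : ∀ x, C.v1 r w x = C.Φ x := fun x => by
    rw [v1, hcw, hr, ← AffData.map_val, AffData.val_model]
  have hσ : C.σv r s w = 1 := by rw [σv, hv, hs, mul_inv_cancel]
  have w6 : w ^ 6 = 1 := by
    have : (zw w) * (zw w) = 1 := by rw [hzw, hzz]
    rwa [zw, ← pow_add] at this
  simp only [eqs, List.forall_mem_cons, List.not_mem_nil, IsEmpty.forall_iff, implies_true, and_true, hv, hcw,
    hzw, hσ, hi, mul_one]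
  refine ⟨?_, ?_, ?_, ?_, ?_, ?_, ?_⟩
  · rw [w6, hr, ← map_pow, ← map_pow, C.hRk, map_one, map_one]
  · rw [hr, hs, ← map_pow, ← map_inv, ← map_mul, ← map_mul, ← map_mul]
    congr 1
    rw [← map_pow, ← map_inv, ← map_mul, ← map_mul, ← map_mul, ← conj_pow, C.hSR, ← pow_mul, ← pow_succ]
    congr 1
    exact pow_eq_pow_iff_modEq.2 (C.hN.of_dvd (orderOf_dvd_of_pow_eq_one C.hRk))
  · rw [hs, ← map_inv, ← map_mul, ← map_mul, ← map_zpow, evenExt_cyc, C.hS]
  · rw [hr, ← map_inv, ← map_mul, ← map_mul, ← map_mul, ← map_pow, evenExt_cyc, C.hR]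
    simp [cyc_pair C.hne.symm]
  · have hlhs : zM * C.Φ (evenExt C.sC) * zM = C.Φ (evenExt (C.π * C.sC * C.π)) := by
      rw [C.Φ_evenExt, hzE, C.viaEmb_sC, C.Φ_evenExt]
    rw [hlhs, eq_comm, mul_eq_left]
    cases even with
    | false => simp [Xv, hσ]
    | true =>
      have hW : C.Wv r w = (evenExt C.f : Perm (Pt m)) := by
        rw [Wv, hv, C.Φ_evenExt]
        have hT : C.Tv r w = fun b =>
            (evenExt (swap (C.e1 (C.eD b)) (C.f (C.e1 (C.eD b)))) : Perm (Pt m)) := by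
          funext b
          have hqD : ∀ x, C.pivot ≠ C.eD x := fun x e => by
            obtain ⟨a', ha'⟩ := C.π_mem ⟨L - 1, by have := C.hL; omega⟩
            exact C.disj a' x (ha'.symm.trans e)
          have hq : ∃ a, C.pivot = C.eC a := (C.split C.pivot).resolve_right fun ⟨x, hx⟩ => hqD x hx
          obtain ⟨a, ha⟩ := hq
          rw [Tv, hzw, hi, hv, hv, C.Φ_evenExt, C.Φ_evenExt, hzE]
          rw [← Subgroup.coe_mul, ← Subgroup.coe_mul, ← map_mul, ← map_mul]
          congr 2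
          have sw : ∀ x y : Fin p, viaEmbedding (swap x y) C.e1 = swap (C.e1 x) (C.e1 y) := fun x y => by
            refine viaEmb_ext _ _ _ (fun i => ?_) fun j hj => ?_
            · exact C.e1.injective.swap_apply x y i
            · exact swap_apply_of_ne_of_ne (fun e => hj x e.symm) (fun e => hj y e.symm)
          rw [sw, sw]
          have hmid : C.f * swap (C.e1 (C.eD b)) (C.e1 (C.π C.pivot)) * C.f =
              swap (C.f (C.e1 (C.eD b))) (C.e1 C.pivot) := by
            have h : C.f (C.e1 (C.π C.pivot)) = C.e1 C.pivot := by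
              rw [ha, ← C.hfC, C.hf]
            rw [← h, Equiv.swap_apply_apply]
            rw [inv_eq_of_mul_eq_one_right C.f_mul_self]
          rw [hmid]
          have d1 : C.e1 (C.eD b) ≠ C.e1 C.pivot := fun e => hqD b (C.e1.injective e).symm
          have d2 : C.f (C.e1 (C.eD b)) ≠ C.e1 C.pivot := C.out b _
          have d3 : C.e1 (C.eD b) ≠ C.f (C.e1 (C.eD b)) := fun e => C.out b _ e.symm
          rw [swap_comm (C.e1 (C.eD b)) (C.e1 C.pivot)]
          exact swap_mul_swap_mul_swap d2 (Ne.symm d3)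
        rw [hT]
        conv_rhs => rw [← C.f_eq, map_mul, Subgroup.coe_mul, map_list_prod, Subgroup.val_list_prod, List.map_map,
          List.map_map]
        rfl
      simp only [Xv, hσ, hW, hzw, if_true, one_mul, hev rfl]
      rw [← Subgroup.coe_mul, ← map_mul, C.f_mul_self, map_one]
      rfl
  · rw [C.Φ_evenExt, C.Φ_evenExt, hr, C.Φ_evenExt, hzE, C.f_conj_viaEmb, ← Subgroup.coe_mul, ← Subgroup.coe_mul,
      ← map_mul, ← map_mul]
    congr 2
    rw [sD, viaEmb_comp]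
    refine (viaEmb_commute _ _ (fun b i e => ?_) _ _).eq
    exact C.out b i (by rw [← C.hf (C.e1 i)]; exact congrArg C.f e)
  · rw [C.Φ_cyc, hzc, ← Subgroup.coe_mul, ← SubmonoidClass.coe_pow, cyc_pair (fun e => C.out _ _ e.symm)]
    rfl

end TwoCfg

end CfsgLib.Lie.BoundedPres
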