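import Cfsg.Agent.Lib.Lie.BoundedPres.Alt.Small
import Cfsg.Agent.Lib.Lie.BoundedPres.SysPres
import Cfsg.Agent.Lib.PGroup.JordanPrime
import Cfsg.Agent.Lib.Lie.BoundedPres.AltAll

/-!
# Presentations of `A_n` and `S_n`: two generators and eight relations, three and seven, any two and nine
-/

set_option autoImplicit false

namespace CfsgLib.Lie.BoundedPres

open Equiv Equiv.Perm

variable {K : Type*} [Group K] {k : ℕ}

/-- rewrite a presentation in two generators -/
theorem substitute {rels : Finset (FreeGroup (Fin k))}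
    (e : PresentedGroup (↑rels : Set (FreeGroup (Fin k))) ≃* K) (a b : K) (w : Fin k → FreeGroup (Fin 2))
    (hw : ∀ i, FreeGroup.lift ![a, b] (w i) = e (PresentedGroup.of i)) (ua ub : FreeGroup (Fin k))
    (hua : e (PresentedGroup.mk _ ua) = a) (hub : e (PresentedGroup.mk _ ub) = b)
    (extra : Finset (FreeGroup (Fin 2)))
    (hA : FreeGroup.of 0 = FreeGroup.lift w ua ∨ FreeGroup.of 0 * (FreeGroup.lift w ua)⁻¹ ∈ extra)
    (hB : FreeGroup.of 1 = FreeGroup.lift w ub ∨ FreeGroup.of 1 * (FreeGroup.lift w ub)⁻¹ ∈ extra)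
    (hextra : ∀ x ∈ extra, FreeGroup.lift ![a, b] x = 1) :
    ∃ rels' : Finset (FreeGroup (Fin 2)), rels'.card ≤ rels.card + extra.card ∧
      ∃ e' : PresentedGroup (↑rels' : Set (FreeGroup (Fin 2))) ≃* K,
        e' (PresentedGroup.of 0) = a ∧ e' (PresentedGroup.of 1) = b := by
  classical
  set W := FreeGroup.lift w
  have hl : ∀ v, FreeGroup.lift (fun i => e (PresentedGroup.of i)) v = e (PresentedGroup.mk _ v) := fun v =>
    DFunLike.congr_fun (FreeGroup.ext_hom (FreeGroup.lift fun i => e (PresentedGroup.of i))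
      (e.toMonoidHom.comp (PresentedGroup.mk _)) fun i => by
        rw [FreeGroup.lift_apply_of]; rfl) v
  have hW : ∀ v, FreeGroup.lift ![a, b] (W v) = e (PresentedGroup.mk _ v) := fun v => by
    rw [← hl]
    show FreeGroup.lift ![a, b] (FreeGroup.lift w v) = _
    rw [← lift_comp_hom (FreeGroup.lift ![a, b])]
    simp only [hw]
  refine ⟨rels.image W ∪ extra, (Finset.card_union_le _ _).trans
    (Nat.add_le_add_right Finset.card_image_le _), ?_⟩
  set rels' : Set (FreeGroup (Fin 2)) := ↑(rels.image W ∪ extra)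
  have hψ : ∀ x ∈ rels', FreeGroup.lift ![a, b] x = 1 := by
    intro x hx
    simp only [rels', Finset.coe_union, Finset.coe_image, Set.mem_union, Set.mem_image, Finset.mem_coe] at hx
    rcases hx with ⟨v, hv, rfl⟩ | hx
    · rw [hW, PresentedGroup.one_of_mem hv, map_one]
    · exact hextra x hx
  let ψ : PresentedGroup rels' →* K := PresentedGroup.toGroup hψ
  let θ : PresentedGroup (↑rels : Set (FreeGroup (Fin k))) →* PresentedGroup rels' :=
    PresentedGroup.toGroup (f := fun i => PresentedGroup.mk rels' (w i)) fun x hx => by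
      rw [lift_comp_hom]
      exact PresentedGroup.one_of_mem (by simp [rels']; exact Or.inl ⟨x, hx, rfl⟩)
  have hθ : ∀ v, θ (PresentedGroup.mk _ v) = PresentedGroup.mk rels' (W v) := fun v =>
    DFunLike.congr_fun (FreeGroup.ext_hom (θ.comp (PresentedGroup.mk _))
      ((PresentedGroup.mk rels').comp W) fun i => by
        show θ (PresentedGroup.mk _ (FreeGroup.of i)) = PresentedGroup.mk rels' (W (FreeGroup.of i))
        rw [show PresentedGroup.mk (↑rels : Set (FreeGroup (Fin k))) (FreeGroup.of i) = PresentedGroup.of i from rfl,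
          show W (FreeGroup.of i) = w i from FreeGroup.lift_apply_of]
        exact PresentedGroup.toGroup.of _) v
  have p0 : ψ (PresentedGroup.of 0) = a := PresentedGroup.toGroup.of hψ
  have p1 : ψ (PresentedGroup.of 1) = b := PresentedGroup.toGroup.of hψ
  have key : ∀ (j : Fin 2) (u : FreeGroup (Fin k)),
      (FreeGroup.of j = W u ∨ FreeGroup.of j * (W u)⁻¹ ∈ extra) →
      θ (PresentedGroup.mk _ u) = PresentedGroup.of j := by
    intro j u h
    rw [hθ]
    rcases h with h | h
    · rw [← h]; rfl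
    · have h' : PresentedGroup.mk rels' (FreeGroup.of j * (W u)⁻¹) = 1 :=
        PresentedGroup.one_of_mem (by simp [rels']; exact Or.inr h)
      rw [map_mul, map_inv, mul_inv_eq_one] at h'
      exact h'.symm
  let φ : K →* PresentedGroup rels' := θ.comp e.symm.toMonoidHom
  have f0 : φ a = PresentedGroup.of 0 := by
    rw [← hua]; simp only [φ, MonoidHom.comp_apply, MulEquiv.coe_toMonoidHom, MulEquiv.symm_apply_apply]
    exact key 0 ua hA
  have f1 : φ b = PresentedGroup.of 1 := by
    rw [← hub]; simp only [φ, MonoidHom.comp_apply, MulEquiv.coe_toMonoidHom, MulEquiv.symm_apply_apply]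
    exact key 1 ub hB
  refine ⟨MonoidHom.toMulEquiv ψ φ ?_ ?_, p0, p1⟩
  · refine PresentedGroup.ext fun j => ?_
    fin_cases j
    · simp [p0, f0]
    · simp [p1, f1]
  · refine MonoidHom.ext fun s => ?_
    obtain ⟨v, hv⟩ := PresentedGroup.mk_surjective _ (e.symm s)
    show ψ (θ (e.symm s)) = s
    rw [← hv, hθ]
    show FreeGroup.lift ![a, b] (W v) = s
    rw [hW, hv, MulEquiv.apply_symm_apply]

theorem exists_word_pair {a b : K} (h : Subgroup.closure ({a, b} : Set K) = ⊤) (s : K) :
    ∃ w, FreeGroup.lift ![a, b] w = s := by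
  have : (FreeGroup.lift ![a, b]).range = ⊤ := by
    rw [FreeGroup.range_lift_eq_closure, ← h, Matrix.range_cons, Matrix.range_cons, Matrix.range_empty,
      Set.union_empty, Set.singleton_union]
  exact (this ▸ Subgroup.mem_top s : s ∈ (FreeGroup.lift ![a, b]).range)

/-- on any two generators -/
theorem two_of_presentation {r : ℕ} (h : ∃ rels : Finset (FreeGroup (Fin k)), rels.card ≤ r ∧
    Nonempty (PresentedGroup (↑rels : Set (FreeGroup (Fin k))) ≃* K)) (a b : K)
    (hab : Subgroup.closure ({a, b} : Set K) = ⊤) :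
    ∃ rels' : Finset (FreeGroup (Fin 2)), rels'.card ≤ r + 2 ∧
      ∃ e' : PresentedGroup (↑rels' : Set (FreeGroup (Fin 2))) ≃* K,
        e' (PresentedGroup.of 0) = a ∧ e' (PresentedGroup.of 1) = b := by
  classical
  obtain ⟨rels, hr, ⟨e⟩⟩ := h
  choose w hw using exists_word_pair hab
  obtain ⟨ua, hua⟩ := PresentedGroup.mk_surjective _ (e.symm a)
  obtain ⟨ub, hub⟩ := PresentedGroup.mk_surjective _ (e.symm b)
  let w' : Fin k → FreeGroup (Fin 2) := fun i => w (e (PresentedGroup.of i))
  have hW : ∀ v, FreeGroup.lift ![a, b] (FreeGroup.lift w' v) = e (PresentedGroup.mk _ v) := fun v => by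
    rw [← lift_comp_hom (FreeGroup.lift ![a, b])]
    simp only [w', hw]
    exact DFunLike.congr_fun (FreeGroup.ext_hom (FreeGroup.lift fun i => e (PresentedGroup.of i))
      (e.toMonoidHom.comp (PresentedGroup.mk _)) fun i => by
        rw [FreeGroup.lift_apply_of]; rfl) v
  obtain ⟨R, hR, he⟩ := substitute e a b w' (fun i => hw _) ua ub (by rw [hua]; simp) (by rw [hub]; simp)
    {FreeGroup.of 0 * (FreeGroup.lift w' ua)⁻¹, FreeGroup.of 1 * (FreeGroup.lift w' ub)⁻¹}
    (Or.inr (by simp)) (Or.inr (by simp)) (fun x hx => by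
      simp only [Finset.mem_insert, Finset.mem_singleton] at hx
      rcases hx with rfl | rfl
      · simp [map_mul, hW, hua]
      · simp [map_mul, hW, hub])
  exact ⟨R, hR.trans (Nat.add_le_add hr Finset.card_le_two), he⟩

/-- one relation more when one of the two is a generator -/
theorem two_of_mate {rels : Finset (FreeGroup (Fin k))}
    (e : PresentedGroup (↑rels : Set (FreeGroup (Fin k))) ≃* K) (i₀ : Fin k) (b : K)
    (hab : Subgroup.closure ({e (PresentedGroup.of i₀), b} : Set K) = ⊤) :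
    ∃ rels' : Finset (FreeGroup (Fin 2)), rels'.card ≤ rels.card + 1 ∧
      Nonempty (PresentedGroup (↑rels' : Set (FreeGroup (Fin 2))) ≃* K) := by
  classical
  choose w hw using exists_word_pair hab
  obtain ⟨ub, hub⟩ := PresentedGroup.mk_surjective _ (e.symm b)
  let w' : Fin k → FreeGroup (Fin 2) := fun i => if i = i₀ then FreeGroup.of 0 else w (e (PresentedGroup.of i))
  have hw' : ∀ i, FreeGroup.lift ![e (PresentedGroup.of i₀), b] (w' i) = e (PresentedGroup.of i) := fun i => by
    simp only [w']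
    split_ifs with h
    · subst h; simp
    · exact hw _
  have hW : ∀ v, FreeGroup.lift ![e (PresentedGroup.of i₀), b] (FreeGroup.lift w' v) =
      e (PresentedGroup.mk _ v) := fun v => by
    rw [← lift_comp_hom (FreeGroup.lift ![e (PresentedGroup.of i₀), b])]
    simp only [hw']
    exact DFunLike.congr_fun (FreeGroup.ext_hom (FreeGroup.lift fun i => e (PresentedGroup.of i))
      (e.toMonoidHom.comp (PresentedGroup.mk _)) fun i => by
        rw [FreeGroup.lift_apply_of]; rfl) v
  obtain ⟨R, hR, e', -⟩ := substitute e (e (PresentedGroup.of i₀)) b w' hw' (FreeGroup.of i₀) ub rfl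
    (by rw [hub]; simp) {FreeGroup.of 1 * (FreeGroup.lift w' ub)⁻¹}
    (Or.inl (by simp [w'])) (Or.inr (by simp)) (fun x hx => by
      simp only [Finset.mem_singleton] at hx
      subst hx
      simp [map_mul, hW, hub])
  exact ⟨R, by simpa using hR, ⟨e'⟩⟩

/-- a permutation of given parity that makes a long prime cycle generate at least the even permutations -/
theorem exists_mate {α : Type*} [Fintype α] [DecidableEq α] (x : Perm α) {p : ℕ} (hp : p.Prime)
    (hx : orderOf x = p) (hlt : Fintype.card α < 2 * p) (h3 : p + 3 ≤ Fintype.card α) (u : ℤˣ) :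
    ∃ b : Perm α, sign b = u ∧ alternatingGroup α ≤ Subgroup.closure ({x, b} : Set (Perm α)) := by
  classical
  have hcyc : x.IsCycle := isCycle_of_prime_order' (hx ▸ hp) (hx ▸ hlt)
  have hsupp : x.support.card = p := by rw [← hcyc.orderOf, hx]
  obtain ⟨i, hi⟩ : x.support.Nonempty := Finset.card_pos.1 (by rw [hsupp]; exact hp.pos)
  have hxi : x i ≠ i := mem_support.1 hi
  obtain ⟨n, hn⟩ : ∃ n, Fintype.card α = n + 2 := ⟨Fintype.card α - 2, by omega⟩
  suffices hb : ∃ b : Perm α, sign b = u ∧ ∃ y₀, ∀ y, y ≠ i → ∃ t : ℕ, (b ^ t) y₀ = y by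
    obtain ⟨b, hu, y₀, hy⟩ := hb
    refine ⟨b, hu, ?_⟩
    set G := Subgroup.closure ({x, b} : Set (Perm α))
    have hxG : x ∈ G := Subgroup.subset_closure (Set.mem_insert _ _)
    have hbG : b ∈ G := Subgroup.subset_closure (Set.mem_insert_of_mem _ rfl)
    have horb : ∀ y, ∃ g ∈ G, g y₀ = y := by
      intro y
      by_cases h : y = i
      · obtain ⟨t, ht⟩ := hy _ hxi
        refine ⟨x⁻¹ * b ^ t, mul_mem (inv_mem hxG) (pow_mem hbG t), ?_⟩
        rw [Perm.mul_apply, ht, h]
        simp [Perm.inv_def]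
      · obtain ⟨t, ht⟩ := hy y h
        exact ⟨b ^ t, pow_mem hbG t, ht⟩
    haveI : MulAction.IsPretransitive G α := ⟨fun y z => by
      obtain ⟨g, hg, rfl⟩ := horb y
      obtain ⟨g', hg', rfl⟩ := horb z
      refine ⟨⟨g' * g⁻¹, mul_mem hg' (inv_mem hg)⟩, ?_⟩
      show (g' * g⁻¹) (g y₀) = g' y₀
      simp [Perm.inv_def]⟩
    refine CfsgLib.PGroup.alternatingGroup_le_of_prime_cycle
      (CfsgLib.PGroup.isPreprimitive_of_prime_cycle hxG hcyc hp hsupp (by rwa [Nat.card_eq_fintype_card]))
      hxG hcyc hp hsupp (by rwa [Nat.card_eq_fintype_card])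
  by_cases hu : (-1 : ℤˣ) ^ (n + 1) = u
  · let e : Fin (n + 2) ≃ α := (Fintype.equivFinOfCardEq hn).symm
    refine ⟨e.permCongr (finRotate (n + 2)), by
      rw [sign_permCongr, sign_finRotate, show n + 2 - 1 = n + 1 from rfl, hu], e ⟨0, by omega⟩,
      fun y _ => ⟨(e.symm y).val, ?_⟩⟩
    rw [show e.permCongr (finRotate (n + 2)) = Equiv.permCongrHom e (finRotate (n + 2)) from rfl, ← map_pow]
    simp only [Equiv.permCongrHom, MulEquiv.coe_mk, Equiv.permCongr_apply, Equiv.symm_apply_apply]
    rw [rotate_pow (by omega) _ (e.symm y).isLt]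
    simp
  · have hs : Fintype.card {j : α // j ≠ i} = n + 1 := by
      rw [Fintype.card_subtype_compl, Fintype.card_subtype_eq, hn]; rfl
    let e : Fin (n + 1) ≃ {j : α // j ≠ i} := (Fintype.equivFinOfCardEq hs).symm
    let em : Fin (n + 1) ↪ α := e.toEmbedding.trans (Function.Embedding.subtype _)
    refine ⟨viaEmbedding (finRotate (n + 1)) em, ?_, em ⟨0, by omega⟩, fun y hy => ⟨(e.symm ⟨y, hy⟩).val, ?_⟩⟩
    · rw [sign_viaEmb, sign_finRotate]
      rcases Int.units_eq_one_or u with rfl | rfl <;>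
        rcases Int.units_eq_one_or ((-1 : ℤˣ) ^ n) with h | h <;> simp_all [pow_succ]
    · rw [show viaEmbedding (finRotate (n + 1)) em = viaEmbeddingHom em (finRotate (n + 1)) from rfl, ← map_pow,
        viaEmbeddingHom_apply, viaEmbedding_apply, rotate_pow (by omega) _ (e.symm ⟨y, hy⟩).isLt]
      simp [em]

/-- points as an initial segment -/
def ptFin {m n : ℕ} (h : m + 2 = n) : Pt m ≃ Fin n := finSumFinEquiv.trans (finCongr (by omega))

theorem altSym_two_fin (n : ℕ) (hn : 3 ≤ n) :
    (∃ rels : Finset (FreeGroup (Fin 2)), rels.card ≤ 3 + (n - 2) / 2 ∧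
      Nonempty (PresentedGroup (↑rels : Set (FreeGroup (Fin 2))) ≃* alternatingGroup (Fin n))) ∧
    ∃ rels : Finset (FreeGroup (Fin 2)), rels.card ≤ 3 + (n - 2) / 2 ∧
      Nonempty (PresentedGroup (↑rels : Set (FreeGroup (Fin 2))) ≃* Perm (Fin n)) := by
  obtain ⟨R, hR, ⟨e⟩⟩ := Rot.presentation_alt (m := n - 2) (by omega)
  obtain ⟨R', hR', ⟨e'⟩⟩ := Rot.presentation_perm (m := n - 2) (by omega)
  exact ⟨⟨R, hR, ⟨e.trans (Equiv.altCongrHom (ptFin (by omega)))⟩⟩,
    R', hR', ⟨e'.trans (Equiv.permCongrHom (ptFin (by omega)))⟩⟩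

/-- three generators, seven relations -/
theorem altSym_three (n : ℕ) (hn : 5 ≤ n) :
    (∃ rels : Finset (FreeGroup (Fin 3)), rels.card ≤ 7 ∧
      Nonempty (PresentedGroup (↑rels : Set (FreeGroup (Fin 3))) ≃* alternatingGroup (Fin n))) ∧
    ∃ rels : Finset (FreeGroup (Fin 3)), rels.card ≤ 7 ∧
      Nonempty (PresentedGroup (↑rels : Set (FreeGroup (Fin 3))) ≃* Perm (Fin n)) := by
  rcases Nat.lt_or_ge n 8 with h8 | h8
  · have pad : ∀ {K : Type} [Group K], (∃ rels : Finset (FreeGroup (Fin 2)), rels.card ≤ 3 + (n - 2) / 2 ∧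
        Nonempty (PresentedGroup (↑rels : Set (FreeGroup (Fin 2))) ≃* K)) →
        ∃ rels : Finset (FreeGroup (Fin 3)), rels.card ≤ 7 ∧
          Nonempty (PresentedGroup (↑rels : Set (FreeGroup (Fin 3))) ≃* K) := by
      intro K _ ⟨R, hR, ⟨e⟩⟩
      obtain ⟨R', hR', he⟩ := (HasSysJ.of_presentation R e).pad.presentation
      exact ⟨R', le_trans hR' (show R.card + 1 + 0 ≤ 7 by omega), he⟩
    obtain ⟨h1, h2⟩ := altSym_two_fin n (by omega)
    exact ⟨pad h1, pad h2⟩
  · obtain ⟨p, -, -, -, ⟨R, hR, e, -⟩, R', hR', e', -⟩ := presentation_three (m := n - 2) (by omega)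
    exact ⟨⟨R, hR, ⟨e.trans (Equiv.altCongrHom (ptFin (by omega)))⟩⟩,
      R', hR', ⟨e'.trans (Equiv.permCongrHom (ptFin (by omega)))⟩⟩

/-- two generators, eight relations -/
theorem altSym_two (n : ℕ) :
    (∃ rels : Finset (FreeGroup (Fin 2)), rels.card ≤ 8 ∧
      Nonempty (PresentedGroup (↑rels : Set (FreeGroup (Fin 2))) ≃* alternatingGroup (Fin n))) ∧
    ∃ rels : Finset (FreeGroup (Fin 2)), rels.card ≤ 8 ∧
      Nonempty (PresentedGroup (↑rels : Set (FreeGroup (Fin 2))) ≃* Perm (Fin n)) := by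
  classical
  rcases Nat.lt_or_ge n 3 with h3 | h3
  · have tiny : ∀ {K : Type} [Group K] [Fintype K], Fintype.card K ≤ 2 →
        ∃ rels : Finset (FreeGroup (Fin 2)), rels.card ≤ 8 ∧
          Nonempty (PresentedGroup (↑rels : Set (FreeGroup (Fin 2))) ≃* K) := by
      intro K _ _ hK
      obtain ⟨emb⟩ : Nonempty (K ↪ Fin 2) :=
        Function.Embedding.nonempty_of_card_le (by rwa [Fintype.card_fin])
      have hs : Function.Surjective (Function.invFun emb) := Function.invFun_surjective emb.injective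
      obtain ⟨R, hR, he⟩ := (HasSysJ.of_gens (k := 2) (Function.invFun emb)
        (by rw [hs.range_eq, Subgroup.closure_univ])).presentation
      exact ⟨R, by omega, he⟩
    refine ⟨tiny ?_, tiny ?_⟩
    · refine (Fintype.card_subtype_le _).trans ?_
      rw [Fintype.card_perm, Fintype.card_fin]
      interval_cases n <;> decide
    · rw [Fintype.card_perm, Fintype.card_fin]
      interval_cases n <;> decide
  rcases Nat.lt_or_ge n 8 with h8 | h8
  · obtain ⟨⟨R, hR, he⟩, R', hR', he'⟩ := altSym_two_fin n h3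
    exact ⟨⟨R, by omega, he⟩, R', by omega, he'⟩
  · obtain ⟨p, hp, hmp, hpm, ⟨R, hR, e, hord⟩, R', hR', e', hord'⟩ := presentation_three (m := n - 2) (by omega)
    have hc : Fintype.card (Pt (n - 2)) = n := by rw [Fintype.card_sum, Fintype.card_fin, Fintype.card_fin]; omega
    constructor
    · obtain ⟨b, hb, hle⟩ := exists_mate ((e (PresentedGroup.of 0) : alternatingGroup (Pt (n - 2))) : Perm (Pt (n - 2)))
        hp (by rw [Subgroup.orderOf_coe, hord]) (by omega) (by omega) 1
      obtain ⟨S, hS, ⟨f⟩⟩ := two_of_mate e 0 ⟨b, hb⟩ (by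
        refine Subgroup.map_injective (Subgroup.subtype_injective (alternatingGroup (Pt (n - 2)))) (le_antisymm
          (Subgroup.map_mono le_top) ?_)
        rw [← MonoidHom.range_eq_map, Subgroup.range_subtype, MonoidHom.map_closure, Set.image_pair]
        exact hle)
      exact ⟨S, by omega, ⟨f.trans (Equiv.altCongrHom (ptFin (by omega)))⟩⟩
    · obtain ⟨b, hb, hle⟩ := exists_mate (e' (PresentedGroup.of 0)) hp hord' (by omega) (by omega) (-1)
      obtain ⟨S, hS, ⟨f⟩⟩ := two_of_mate e' 0 b (by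
        refine eq_top_iff.2 fun g _ => ?_
        rcases Int.units_eq_one_or (sign g) with h | h
        · exact hle h
        · have : g * b ∈ Subgroup.closure ({e' (PresentedGroup.of 0), b} : Set (Perm (Pt (n - 2)))) := hle (by
            rw [mem_alternatingGroup, map_mul, h, hb, Int.units_mul_self])
          have := mul_mem this (inv_mem (Subgroup.subset_closure (Set.mem_insert_of_mem _ rfl) :
            b ∈ Subgroup.closure ({e' (PresentedGroup.of 0), b} : Set (Perm (Pt (n - 2))))))
          rwa [mul_inv_cancel_right] at this)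
      exact ⟨S, by omega, ⟨f.trans (Equiv.permCongrHom (ptFin (by omega)))⟩⟩

end CfsgLib.Lie.BoundedPres
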