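import Cfsg.Agent.Lib.Lie.BoundedPres.Alt.Model
import Cfsg.Agent.Lib.Lie.BoundedPres.Alt.Bertrand

/-!
# Three generators and seven relations for `A_n` and `S_n`, `n ≥ 8`
-/

set_option autoImplicit false

namespace CfsgLib.Lie.BoundedPres

open Equiv Equiv.Perm

theorem exists_affData (p : ℕ) [hp : Fact p.Prime] (h2 : p ≠ 2) (c₀ : Fin p) :
    ∃ D : AffData p, D.i0 = c₀ := by
  classical
  let e₀ : ZMod p ≃ Fin p := (ZMod.finEquiv p).symm.toEquiv
  let e : ZMod p ≃ Fin p := e₀.trans (swap (e₀ 0) c₀)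
  obtain ⟨g, hg⟩ := IsCyclic.exists_monoid_generator (α := (ZMod p)ˣ)
  have hg1 : (g : ZMod p) ≠ 1 := by
    intro h
    have hall : ∀ x : (ZMod p)ˣ, x = 1 := fun x => by
      obtain ⟨b, hb⟩ := (Submonoid.mem_powers_iff x g).1 (hg x)
      rw [← hb, (Units.ext h : g = 1), one_pow]
    have h' := Fintype.card_le_one_iff.2 (fun a b => (hall a).trans (hall b).symm)
    rw [ZMod.card_units p] at h'
    have := hp.out.two_le
    omega
  let C : Perm (ZMod p) →* Perm (Fin p) := (Equiv.permCongrHom e).toMonoidHom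
  have hC : ∀ (f : Perm (ZMod p)) x, C f (e x) = e (f x) := fun f x => by
    simp [C, Equiv.permCongrHom]
  let T : Perm (ZMod p) := Equiv.addRight 1
  let M : Perm (ZMod p) := Equiv.mulLeft₀ (g : ZMod p) g.ne_zero
  have hT : ∀ a : ℕ, ∀ x, (T ^ a) x = x + a := by
    intro a
    induction a with
    | zero => simp
    | succ a ih => intro x; rw [pow_succ', Perm.mul_apply, ih]; simp [T, add_assoc]
  have hM : ∀ b : ℕ, ∀ x, (M ^ b) x = (g : ZMod p) ^ b * x := by
    intro b
    induction b with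
    | zero => simp
    | succ b ih => intro x; rw [pow_succ', Perm.mul_apply, ih, pow_succ']; simp [M, mul_assoc]
  have hT1 : ∀ a : ℕ, (C (T) ^ a) (e 0) = e (a : ZMod p) := fun a => by
    rw [← map_pow, hC, hT, zero_add]
  have hTp : T ^ p = 1 := Equiv.ext fun x => by simp [hT]
  have hsign : sign (C T) = 1 := by
    rcases Int.units_eq_one_or (sign (C T)) with h | h
    · exact h
    · have := congrArg sign (show C T ^ p = 1 by rw [← map_pow, hTp, map_one])
      rw [map_pow, h, map_one, (hp.out.odd_of_ne_two h2).neg_one_pow] at this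
      exact absurd this (by decide)
  refine ⟨{
    R := C T
    S := C M
    i0 := e 0
    N := (g : ZMod p).val
    a0 := ((1 - (g : ZMod p))⁻¹).val
    hR := hsign
    hS := by rw [hC]; simp [M]
    hSR := by
      rw [← map_inv, ← map_mul, ← map_mul, ← map_pow]
      refine congrArg C (mul_inv_eq_iff_eq_mul.2 (Equiv.ext fun x => ?_))
      simp only [Perm.mul_apply, hT, ZMod.natCast_val, ZMod.cast_id', id_eq]
      simp [T, M, mul_add]
    hRk := by rw [← map_pow, hTp, map_one]
    hne := by rw [hC]; simp [T]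
    hcov := fun i => ⟨(e.symm i).val, by rw [hT1, ZMod.natCast_val, ZMod.cast_id', id_eq, Equiv.apply_symm_apply]⟩
    huniq := fun a b h => by
      rw [hT1, hT1] at h
      exact (ZMod.natCast_eq_natCast_iff _ _ _).1 (e.injective h)
    hpair := fun i j hij => by
      have hd : e.symm j - e.symm i ≠ 0 := sub_ne_zero.2 fun h => hij (e.symm.injective h).symm
      obtain ⟨b, hb⟩ := Submonoid.mem_powers_iff (Units.mk0 _ hd) g |>.1 (hg _)
      have hb' : (g : ZMod p) ^ b = e.symm j - e.symm i := by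
        rw [← Units.val_pow_eq_pow_val, hb]; rfl
      refine ⟨(e.symm i).val, b, ?_, ?_⟩
      · rw [Perm.mul_apply, ← map_pow, ← map_pow, hC, hC, hT, hM, mul_zero, zero_add, ZMod.natCast_val,
          ZMod.cast_id', id_eq, Equiv.apply_symm_apply]
      · rw [show C T (e 0) = e 1 by rw [hC]; simp [T],
          Perm.mul_apply, ← map_pow, ← map_pow, hC, hC, hT, hM, mul_one, hb', ZMod.natCast_val,
          ZMod.cast_id', id_eq, sub_add_cancel, Equiv.apply_symm_apply]
    hN := by
      rw [← ZMod.natCast_eq_natCast_iff]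
      push_cast
      rw [ZMod.natCast_zmod_val, ZMod.natCast_zmod_val]
      have h0 : (1 : ZMod p) - g ≠ 0 := sub_ne_zero.2 (Ne.symm hg1)
      field_simp
      ring
    ha0 := ⟨(1 - (g : ZMod p)).val, by
      rw [← ZMod.natCast_eq_natCast_iff]
      push_cast
      rw [ZMod.natCast_zmod_val, ZMod.natCast_zmod_val, inv_mul_cancel₀ (sub_ne_zero.2 (Ne.symm hg1))]⟩ }, ?_⟩
  show e 0 = c₀
  simp [e]

/-- the standard position of two copies, with the parity of the exchange prescribed -/
theorem exists_cfg {p m : ℕ} [hp : Fact p.Prime] (h2 : p ≠ 2) (hpm : p < m) (hm : m + 3 ≤ 2 * p) (u : ℤˣ) :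
    ∃ (L L₁ : ℕ) (C : TwoCfg p m L L₁), (-1 : ℤˣ) ^ L₁ * sign C.π = u ∧ sign C.f = u := by
  classical
  obtain ⟨L₁, rfl⟩ : ∃ L₁, m = L₁ + p := ⟨m - p, by omega⟩
  obtain ⟨L, rfl⟩ : ∃ L, p = L₁ + L := ⟨p - L₁, by omega⟩
  have hL : 3 ≤ L := by omega
  have hL1 : 0 < L₁ := by omega
  let eC : Fin L ↪ Fin (L₁ + L) :=
    ⟨fun a => ⟨L₁ + a.val, by omega⟩, fun a b h => by simpa [Fin.ext_iff] using h⟩
  let eD : Fin L₁ ↪ Fin (L₁ + L) :=
    ⟨fun a => ⟨a.val, by omega⟩, fun a b h => by simpa [Fin.ext_iff] using h⟩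
  let e1 : Fin (L₁ + L) ↪ Fin (L₁ + (L₁ + L)) :=
    ⟨fun a => ⟨a.val, by omega⟩, fun a b h => by simpa [Fin.ext_iff] using h⟩
  have veC : ∀ a, (eC a).val = L₁ + a.val := fun _ => rfl
  have veD : ∀ a, (eD a).val = a.val := fun _ => rfl
  have ve1 : ∀ a, (e1 a).val = a.val := fun _ => rfl
  let π : Perm (Fin (L₁ + L)) := if (-1 : ℤˣ) ^ L₁ = u then 1
    else swap (eC ⟨L - 2, by omega⟩) (eC ⟨L - 1, by omega⟩)
  have hπ : ∀ i, π (π i) = i := fun i => by
    simp only [π]; split_ifs <;> simp [swap_apply_self]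
  have hlow : ∀ i : Fin (L₁ + L), i.val ≤ L₁ → π i = i := fun i hi => by
    simp only [π]
    split_ifs
    · rfl
    · exact swap_apply_of_ne_of_ne (by simp only [ne_eq, Fin.ext_iff, veC]; omega) (by simp only [ne_eq, Fin.ext_iff, veC]; omega)
  have hhigh : ∀ i : Fin (L₁ + L), L₁ ≤ i.val → L₁ ≤ (π i).val := fun i hi => by
    by_contra hc
    have h' := hlow (π i) (by omega)
    rw [hπ] at h'
    rw [← h'] at hc
    exact hc hi
  let F : Fin (L₁ + (L₁ + L)) → Fin (L₁ + (L₁ + L)) := fun j =>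
    if h : j.val < L₁ then ⟨j.val + (L₁ + L), by omega⟩
    else if h' : j.val < L₁ + L then ⟨(π ⟨j.val, h'⟩).val, by omega⟩ else ⟨j.val - (L₁ + L), by omega⟩
  have F1 : ∀ j, ∀ h : j.val < L₁, F j = ⟨j.val + (L₁ + L), by omega⟩ := fun j h => by simp only [F, dif_pos h]
  have F2 : ∀ j, L₁ ≤ j.val → ∀ h' : j.val < L₁ + L, F j = ⟨(π ⟨j.val, h'⟩).val, by omega⟩ := fun j h h' => by
    simp only [F, dif_neg (not_lt.2 h), dif_pos h']
  have F3 : ∀ j, L₁ + L ≤ j.val → F j = ⟨j.val - (L₁ + L), by omega⟩ := fun j h => by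
    simp only [F, dif_neg (show ¬ j.val < L₁ by omega), dif_neg (not_lt.2 h)]
  have hF : Function.Involutive F := by
    intro j
    rcases Nat.lt_or_ge j.val L₁ with h | h
    · rw [F1 j h, F3 _ (show L₁ + L ≤ j.val + (L₁ + L) by omega)]
      exact Fin.ext (show j.val + (L₁ + L) - (L₁ + L) = j.val by omega)
    rcases Nat.lt_or_ge j.val (L₁ + L) with h' | h'
    · rw [F2 j h h', F2 _ (hhigh ⟨j.val, h'⟩ h) (π ⟨j.val, h'⟩).isLt]
      simp only [Fin.eta, hπ]
    · rw [F3 j h', F1 _ (show j.val - (L₁ + L) < L₁ by omega)]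
      exact Fin.ext (show j.val - (L₁ + L) + (L₁ + L) = j.val by omega)
  obtain ⟨D, hD⟩ := exists_affData (L₁ + L) h2 (eC ⟨0, by omega⟩)
  let C : TwoCfg (L₁ + L) (L₁ + (L₁ + L)) L L₁ :=
    { toAffData := D
      e1 := e1
      f := hF.toPerm
      π := π
      eC := eC
      eD := eD
      hL := by omega
      hL₁ := hL1
      hi0 := hD
      split := fun i => by
        rcases Nat.lt_or_ge i.val L₁ with h | h
        · exact Or.inr ⟨⟨i.val, h⟩, rfl⟩
        · exact Or.inl ⟨⟨i.val - L₁, by omega⟩, Fin.ext (show i.val = L₁ + (i.val - L₁) by omega)⟩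
      disj := fun a b e => by
        have := congrArg Fin.val e
        simp only [veC, veD] at this
        omega
      hf := hF
      hfC := fun a => by
        show F _ = _
        rw [F2 _ (show L₁ ≤ L₁ + a.val by omega) (show L₁ + a.val < L₁ + L by omega)]
        rfl
      hπ := hπ
      hπD := fun b => hlow _ (show b.val ≤ L₁ by omega)
      hπ0 := by rw [hD]; exact hlow _ (show L₁ + 0 ≤ L₁ by omega)
      cover := fun j => by
        rcases Nat.lt_or_ge j.val (L₁ + L) with h | h
        · exact Or.inl ⟨⟨j.val, h⟩, rfl⟩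
        · refine Or.inr ⟨⟨j.val - (L₁ + L), by omega⟩, ?_⟩
          show _ = F _
          rw [F1 _ (show j.val - (L₁ + L) < L₁ by omega)]
          exact Fin.ext (show j.val = j.val - (L₁ + L) + (L₁ + L) by omega)
      out := fun b i e => by
        have e' : F (e1 (eD b)) = e1 i := e
        rw [F1 _ (show b.val < L₁ from b.isLt)] at e'
        have h1 := congrArg Fin.val e'
        have := i.isLt
        simp only [ve1, veD] at h1
        omega }
  have hu : (-1 : ℤˣ) ^ L₁ * sign π = u := by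
    simp only [π]
    split_ifs with h
    · rw [map_one, mul_one, h]
    · rw [sign_swap (by simp only [ne_eq, Fin.ext_iff, veC]; omega)]
      rcases Int.units_eq_one_or ((-1 : ℤˣ) ^ L₁) with h1 | h1 <;>
        rcases Int.units_eq_one_or u with rfl | rfl <;> simp_all
  exact ⟨L, L₁, C, hu, C.sign_f.trans hu⟩

/-- a group covered by a subgroup and one coset -/
theorem card_le_of_two {G A : Type*} [Group G] [Group A] [Finite A] (φ : A →* G) (z : G) (hzz : z * z = 1)
    (hn : ∀ g ∈ φ.range, z * g * z⁻¹ ∈ φ.range) {X : Set G} (hX : Subgroup.closure X = ⊤)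
    (hmem : ∀ x ∈ X, x ∈ φ.range ∨ x * z ∈ φ.range) :
    Finite G ∧ Nat.card G ≤ 2 * Nat.card A ∧ (z ∈ φ.range → Nat.card G ≤ Nat.card A) := by
  have hzi : z⁻¹ = z := inv_eq_of_mul_eq_one_right hzz
  have hz' : ∀ g ∈ φ.range, z * g * z ∈ φ.range := fun g hg => by simpa [hzi] using hn g hg
  let U : Subgroup G :=
    { carrier := {g | g ∈ φ.range ∨ g * z ∈ φ.range}
      one_mem' := Or.inl (one_mem _)
      mul_mem' := by
        rintro a b (ha | ha) (hb | hb)
        · exact Or.inl (mul_mem ha hb)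
        · exact Or.inr (by rw [mul_assoc]; exact mul_mem ha hb)
        · refine Or.inr ?_
          have := mul_mem ha (hz' b hb)
          rwa [show a * z * (z * b * z) = a * (z * z) * b * z by group, hzz, mul_one] at this
        · refine Or.inl ?_
          have := mul_mem ha (hz' _ hb)
          rwa [show a * z * (z * (b * z) * z) = a * (z * z) * b * (z * z) by group, hzz, mul_one, mul_one] at this
      inv_mem' := by
        rintro a (ha | ha)
        · exact Or.inl (inv_mem ha)
        · refine Or.inr ?_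
          have := hz' _ (inv_mem ha)
          rwa [_root_.mul_inv_rev, hzi, ← mul_assoc z z, hzz, one_mul] at this }
  have hU : ∀ g, g ∈ φ.range ∨ g * z ∈ φ.range := fun g => by
    have hle : Subgroup.closure X ≤ U := (Subgroup.closure_le U).2 hmem
    exact hle (hX ▸ Subgroup.mem_top g)
  have hsurj : Function.Surjective fun x : A × Bool => if x.2 then φ x.1 * z else φ x.1 := fun g => by
    rcases hU g with ⟨a, ha⟩ | ⟨a, ha⟩
    · exact ⟨(a, false), ha⟩
    · refine ⟨(a, true), ?_⟩
      show φ a * z = g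
      rw [ha, mul_assoc, hzz, mul_one]
  refine ⟨Finite.of_surjective _ hsurj, ?_, fun hz => Nat.card_le_card_of_surjective φ fun g => ?_⟩
  · have := Nat.card_le_card_of_surjective _ hsurj
    rw [Nat.card_prod, Nat.card_eq_fintype_card (α := Bool), Fintype.card_bool] at this
    omega
  · rcases hU g with h | h
    · exact h
    · have := φ.range.mul_mem h hz
      rwa [mul_assoc, hzz, mul_one] at this

theorem presented_iso {K : Type*} [Group K] [Finite K] {k : ℕ} (rels : Finset (FreeGroup (Fin k)))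
    (gK : Fin k → K) (hrel : ∀ x ∈ rels, FreeGroup.lift gK x = 1) (hgen : Subgroup.closure (Set.range gK) = ⊤)
    (hcard : Finite (PresentedGroup (↑rels : Set (FreeGroup (Fin k)))) ∧
      Nat.card (PresentedGroup (↑rels : Set (FreeGroup (Fin k)))) ≤ Nat.card K) :
    ∃ e : PresentedGroup (↑rels : Set (FreeGroup (Fin k))) ≃* K, ∀ i, e (PresentedGroup.of i) = gK i := by
  haveI := hcard.1
  let ψ : PresentedGroup (↑rels : Set (FreeGroup (Fin k))) →* K :=
    PresentedGroup.toGroup (f := gK) fun x hx => hrel x hx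
  have hψ : ∀ i, ψ (PresentedGroup.of i) = gK i := fun i => PresentedGroup.toGroup.of _
  have hs : Function.Surjective ψ := by
    rw [← MonoidHom.range_eq_top, eq_top_iff, ← hgen, Subgroup.closure_le]
    rintro _ ⟨i, rfl⟩
    exact ⟨_, hψ i⟩
  have hb : Function.Bijective ψ := (Nat.bijective_iff_surjective_and_card ψ).2
    ⟨hs, le_antisymm hcard.2 (Nat.card_le_card_of_surjective ψ hs)⟩
  exact ⟨MulEquiv.ofBijective ψ hb, hψ⟩

namespace TwoCfg

variable {p m L L₁ : ℕ} (C : TwoCfg p m L L₁)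

/-- the relators -/
noncomputable def relators (even : Bool) : Finset (FreeGroup (Fin 3)) := by
  classical
  exact ((C.eqs even (FreeGroup.of 0) (FreeGroup.of 1) (FreeGroup.of 2)).map fun e => e.1 * e.2⁻¹).toFinset

theorem card_relators (even : Bool) : (C.relators even).card ≤ 7 := by
  classical
  exact (List.toFinset_card_le _).trans (by simp [eqs])

theorem relators_iff {G : Type*} [Group G] (even : Bool) (g : Fin 3 → G) :
    (∀ x ∈ C.relators even, FreeGroup.lift g x = 1) ↔ ∀ e ∈ C.eqs even (g 0) (g 1) (g 2), e.1 = e.2 := by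
  classical
  have e : C.eqs even (g 0) (g 1) (g 2) =
      (C.eqs even (FreeGroup.of 0) (FreeGroup.of 1) (FreeGroup.of 2)).map
        (Prod.map (FreeGroup.lift g) (FreeGroup.lift g)) := by
    rw [← C.map_eqs]
    simp only [FreeGroup.lift_apply_of]
  rw [e]
  simp only [relators, List.mem_toFinset, List.mem_map, List.forall_mem_map, forall_exists_index, and_imp,
    forall_apply_eq_imp_iff₂, map_mul, map_inv, mul_inv_eq_one, Prod.map_fst, Prod.map_snd]

theorem presentation (hp : p.Prime) (hp2 : p ≠ 2) (hp3 : 1 < p) (even : Bool)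
    (hpar : even = true → (-1 : ℤˣ) ^ L₁ * sign C.π = 1)
    {K : Type*} [Group K] [Finite K] (ι : K →* Perm (Pt m)) (hι : Function.Injective ι) (zM : Perm (Pt m))
    (hzz : zM * zM = 1) (hzc : ∀ j, zM * (cyc j : Perm (Pt m)) * zM = (cyc (C.f j) : Perm (Pt m)))
    (hzE : ∀ h : Perm (Fin m), zM * (evenExt h : Perm (Pt m)) * zM = (evenExt (C.f * h * C.f) : Perm (Pt m)))
    (hev : even = true → zM = (evenExt C.f : Perm (Pt m)))
    (hzr : zM ∈ ι.range) (hAr : alternatingGroup (Pt m) ≤ ι.range)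
    (hgen : ∀ U : Subgroup K, alternatingGroup (Pt m) ≤ U.map ι → zM ∈ U.map ι → U = ⊤)
    (hK : if even then Nat.card (alternatingGroup (Pt m)) ≤ Nat.card K
      else 2 * Nat.card (alternatingGroup (Pt m)) ≤ Nat.card K) :
    ∃ rels : Finset (FreeGroup (Fin 3)), rels.card ≤ 7 ∧
      ∃ e : PresentedGroup (↑rels : Set (FreeGroup (Fin 3))) ≃* K, orderOf (e (PresentedGroup.of 0)) = p := by
  classical
  have hΦ : ∀ x, C.Φ x ∈ ι.range := fun x => hAr (altMap C.e1 x).2
  have hwr : C.wM zM ∈ ι.range := mul_mem (hΦ _) hzr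
  obtain ⟨rK, hrK⟩ := hΦ (evenExt C.R)
  obtain ⟨sK, hsK⟩ := hΦ (evenExt C.S)
  obtain ⟨wK, hwK⟩ := hwr
  let gK : Fin 3 → K := ![rK, sK, wK]
  have hg0 : ι (gK 0) = C.Φ (evenExt C.R) := hrK
  have hg1 : ι (gK 1) = C.Φ (evenExt C.S) := hsK
  have hg2 : ι (gK 2) = C.wM zM := hwK
  have hrel : ∀ x ∈ C.relators even, FreeGroup.lift gK x = 1 := by
    intro x hx
    apply hι
    rw [← lift_comp_hom, map_one]
    refine (C.relators_iff even (fun i => ι (gK i))).2 ?_ x hx
    rw [hg0, hg1, hg2]
    exact C.eqs_model even hzz hzc hzE hev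
  obtain ⟨hcw, hzw⟩ := C.wM_spec hzz hzc
  have hclos : Subgroup.closure (Set.range gK) = ⊤ := by
    set U := Subgroup.closure (Set.range gK)
    have hU : ∀ i, ι (gK i) ∈ U.map ι := fun i => ⟨_, Subgroup.subset_closure ⟨i, rfl⟩, rfl⟩
    have hw : C.wM zM ∈ U.map ι := hg2 ▸ hU 2
    have hr : C.Φ (evenExt C.R) ∈ U.map ι := hg0 ▸ hU 0
    have hc : C.Φ (cyc C.i0) ∈ U.map ι := hcw ▸ inv_mem (pow_mem hw 2)
    have hz : zM ∈ U.map ι := hzw ▸ pow_mem hw 3
    refine hgen U ?_ hz
    have h1 : ∀ i, (cyc (C.e1 i) : Perm (Pt m)) ∈ U.map ι := fun i => by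
      obtain ⟨a, rfl⟩ := C.hcov i
      have := mul_mem (mul_mem (pow_mem hr a) hc) (inv_mem (pow_mem hr a))
      rwa [← map_pow, ← map_inv, ← map_mul, ← map_mul, ← map_pow evenExt, evenExt_cyc, map_pow, C.hR, one_pow,
        Units.val_one, zpow_one, C.Φ_cyc] at this
    have hall : ∀ j : Fin m, ((cyc j : alternatingGroup (Pt m)) : Perm (Pt m)) ∈ U.map ι := fun j => by
      rcases C.cover j with ⟨i, rfl⟩ | ⟨b, rfl⟩
      · exact h1 i
      · rw [← hzc]; exact mul_mem (mul_mem hz (h1 _)) hz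
    intro x hx
    have hle : Subgroup.closure (Set.range (cyc (m := m))) ≤ (U.map ι).comap (alternatingGroup (Pt m)).subtype :=
      (Subgroup.closure_le _).2 (by rintro _ ⟨j, rfl⟩; exact hall j)
    exact hle (show (⟨x, hx⟩ : alternatingGroup (Pt m)) ∈ _ by rw [closure_cyc]; trivial)
  let G := PresentedGroup (↑(C.relators even) : Set (FreeGroup (Fin 3)))
  let g : Fin 3 → G := PresentedGroup.of
  have hG : ∀ e ∈ C.eqs even (g 0) (g 1) (g 2), e.1 = e.2 := (C.relators_iff even g).1 fun x hx => by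
    have : FreeGroup.lift g = PresentedGroup.mk (↑(C.relators even) : Set (FreeGroup (Fin 3))) :=
      FreeGroup.ext_hom _ _ fun i => by simp [g]; rfl
    rw [this]; exact PresentedGroup.one_of_mem hx
  obtain ⟨φ, hz2, hn, hrH, hsH, hcH, hzH⟩ := C.exists_hom hp hp2 even hpar (g 0) (g 1) (g 2) hG
  have hmem : ∀ x ∈ Set.range g, x ∈ φ.range ∨ x * zw (g 2) ∈ φ.range := by
    rintro _ ⟨i, rfl⟩
    fin_cases i
    · exact Or.inl hrH
    · exact Or.inl hsH
    · refine Or.inr ?_
      have e : g 2 * zw (g 2) = (cw (g 2))⁻¹ * (cw (g 2))⁻¹ := by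
        simp only [cw, zw, inv_inv]; group
      show g 2 * zw (g 2) ∈ φ.range
      rw [e]; exact mul_mem (inv_mem hcH) (inv_mem hcH)
  obtain ⟨hfin, h2c, h1c⟩ := card_le_of_two φ (zw (g 2)) hz2 hn (PresentedGroup.closure_range_of _) hmem
  have hcard : Nat.card G ≤ Nat.card K := by
    cases even with
    | true => exact (h1c (hzH rfl)).trans (by simpa using hK)
    | false => exact h2c.trans (by simpa using hK)
  obtain ⟨e, he⟩ := presented_iso (C.relators even) gK hrel hclos ⟨hfin, hcard⟩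
  refine ⟨C.relators even, C.card_relators even, e, ?_⟩
  haveI := Fact.mk hp
  rw [he 0, ← orderOf_injective ι hι, hg0]
  refine orderOf_eq_prime ?_ ?_
  · rw [← map_pow, ← map_pow, C.hRk, map_one, map_one]
  · intro h
    have e1 := congrArg (fun x : Perm (Pt m) => x (Sum.inr (C.e1 C.i0))) h
    simp only [C.Φ_evenExt, evenExt_val] at e1
    simp [viaEmbedding_apply, C.hne] at e1

end TwoCfg

/-- seven relations on three generators for the alternating and the symmetric groups -/
theorem presentation_three {m : ℕ} (hm : 6 ≤ m) : ∃ p, p.Prime ∧ m + 3 ≤ 2 * p ∧ p < m ∧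
    (∃ rels : Finset (FreeGroup (Fin 3)), rels.card ≤ 7 ∧
      ∃ e : PresentedGroup (↑rels : Set (FreeGroup (Fin 3))) ≃* alternatingGroup (Pt m),
        orderOf (e (PresentedGroup.of 0)) = p) ∧
    (∃ rels : Finset (FreeGroup (Fin 3)), rels.card ≤ 7 ∧
      ∃ e : PresentedGroup (↑rels : Set (FreeGroup (Fin 3))) ≃* Perm (Pt m),
        orderOf (e (PresentedGroup.of 0)) = p) := by
  classical
  obtain ⟨p, hp, h1, h2⟩ := exists_prime_between (m / 2) (by omega)
  have hpm : p < m := by
    rcases Nat.lt_or_ge p m with h | h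
    · exact h
    · have e : p = 2 * (m / 2) := by omega
      exact absurd (e ▸ hp) (Nat.not_prime_mul (by omega) (by omega))
  have hp2 : p ≠ 2 := by omega
  haveI := Fact.mk hp
  refine ⟨p, hp, by omega, hpm, ?_, ?_⟩
  · obtain ⟨L, L₁, C, hu, hf⟩ := exists_cfg hp2 hpm (by omega) 1
    refine C.presentation hp hp2 hp.one_lt true (fun _ => hu) (alternatingGroup (Pt m)).subtype
      (Subgroup.subtype_injective _) (evenExt C.f : Perm (Pt m)) ?_ ?_ ?_ (fun _ => rfl) ⟨evenExt C.f, rfl⟩
      (fun x hx => ⟨⟨x, hx⟩, rfl⟩) ?_ (by simp)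
    · rw [← Subgroup.coe_mul, ← map_mul, C.f_mul_self, map_one]; rfl
    · intro j
      have h := congrArg Subtype.val (evenExt_cyc C.f j)
      rw [hf, Units.val_one, zpow_one] at h
      rw [show (evenExt C.f)⁻¹ = evenExt C.f by rw [← map_inv, inv_eq_of_mul_eq_one_right C.f_mul_self]] at h
      exact h
    · intro h; rw [map_mul, map_mul]; rfl
    · intro U hU _
      exact Subgroup.map_injective (Subgroup.subtype_injective _)
        (le_antisymm (Subgroup.map_mono le_top) (by rw [← MonoidHom.range_eq_map, Subgroup.range_subtype]; exact hU))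
  · obtain ⟨L, L₁, C, hu, hf⟩ := exists_cfg hp2 hpm (by omega) (-1)
    have hfi : C.f⁻¹ = C.f := inv_eq_of_mul_eq_one_right C.f_mul_self
    refine C.presentation hp hp2 hp.one_lt false (fun h => by simp at h) (MonoidHom.id _)
      Function.injective_id (Perm.sumCongr 1 C.f) ?_ ?_ ?_ (fun h => by simp at h) ⟨_, rfl⟩
      (fun x _ => ⟨x, rfl⟩) ?_ ?_
    · rw [Perm.sumCongr_mul, one_mul, C.f_mul_self]; simp
    · intro j
      show _ * cycP j * _ = cycP (C.f j)
      set g := Perm.sumCongr (1 : Perm (Fin 2)) C.f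
      have hg : g⁻¹ = g := inv_eq_of_mul_eq_one_right (by simp only [g, Perm.sumCongr_mul, one_mul, C.f_mul_self]; simp)
      have e : ∀ a b, g * swap a b * g = swap (g a) (g b) := fun a b => by
        rw [swap_apply_apply, hg]
      rw [cycP, show g * (swap (Sum.inl 0) (Sum.inl 1) * swap (Sum.inl 1) (Sum.inr j)) * g =
        (g * swap (Sum.inl 0) (Sum.inl 1) * g) * (g⁻¹ * g⁻¹) * (g * swap (Sum.inl 1) (Sum.inr j) * g) by group,
        e, e, hg, show g * g = 1 by simp only [g, Perm.sumCongr_mul, one_mul, C.f_mul_self]; simp, mul_one]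
      simp [g, cycP]
    · intro h
      rw [evenExt_val, evenExt_val, Perm.sumCongr_mul, Perm.sumCongr_mul, one_mul, mul_one]
      congr 2
      rw [map_mul, map_mul, mul_comm (sign C.f), mul_assoc, Int.units_mul_self, mul_one]
    · intro U hU hz
      rw [Subgroup.map_id] at hU hz
      refine eq_top_iff.2 fun g _ => ?_
      rcases Int.units_eq_one_or (sign g) with h | h
      · exact hU h
      · have : g * Perm.sumCongr 1 C.f ∈ U := hU (by
          rw [mem_alternatingGroup, map_mul, h, sign_sumCongr, map_one, one_mul, hf, Int.units_mul_self])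
        have := U.mul_mem this hz
        rwa [mul_assoc, Perm.sumCongr_mul, one_mul, C.f_mul_self, Perm.sumCongr_one, mul_one] at this
    · haveI : Nontrivial (Pt m) := ⟨⟨.inl 0, .inl 1, by simp⟩⟩
      simp only [Bool.false_eq_true, if_false]
      rw [two_mul_nat_card_alternatingGroup]

end CfsgLib.Lie.BoundedPres
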