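import Cfsg.Agent.Lib.Lie.BoundedPres.Alt.Short

/-!
# Two generators for `A_{m+2}` and `S_{m+2}` with `3 + m / 2` relations

The second generator rotates the free points; Carmichael's relations follow by shifting.
-/

set_option autoImplicit false

namespace CfsgLib.Lie.BoundedPres

open Equiv Equiv.Perm

namespace Rot

variable {m : ℕ} {G : Type*} [Group G]

/-- the parity twist of the rotation -/
def tw (m : ℕ) (odd : Bool) : ℤˣ := sign (finRotate m) * (if odd then -1 else 1)

/-- the family -/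
def ys (ε : ℤˣ) (c g : G) (i : ℕ) : G := (g ^ i * c * (g ^ i)⁻¹) ^ ((ε ^ i : ℤˣ) : ℤ)

theorem map_ys {H : Type*} [Group H] (f : G →* H) (ε : ℤˣ) (c g : G) (i : ℕ) :
    f (ys ε c g i) = ys ε (f c) (f g) i := by simp [ys]

/-- the rotation as an element of the family's group -/
noncomputable def rotVal (ε : ℤˣ) (c g : G) : G :=
  FreeGroup.lift (fun i : Fin m => ys ε c g i) (AffData.word (evenExt (finRotate m)))

theorem map_rotVal {H : Type*} [Group H] (f : G →* H) (ε : ℤˣ) (c g : G) :
    f (rotVal (m := m) ε c g) = rotVal (m := m) ε (f c) (f g) := by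
  rw [rotVal, ← lift_comp_hom]
  simp only [map_ys]
  rfl

/-- the relations -/
noncomputable def eqs (m : ℕ) (odd : Bool) (c g : G) : List (G × G) :=
  [(c ^ 3, 1), (g ^ m * c * (g ^ m)⁻¹, c ^ (((tw m odd) ^ m : ℤˣ) : ℤ)),
    (if odd then ((rotVal (m := m) (tw m odd) c g)⁻¹ * g) ^ 2 else (rotVal (m := m) (tw m odd) c g)⁻¹ * g, 1)] ++
  List.ofFn fun j : Fin (m / 2) => ((c * ys (tw m odd) c g (j.val + 1)) ^ 2, 1)

theorem map_eqs {H : Type*} [Group H] (f : G →* H) (m : ℕ) (odd : Bool) (c g : G) :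
    eqs m odd (f c) (f g) = (eqs m odd c g).map (Prod.map f f) := by
  cases odd <;> simp [eqs, List.ofFn_comp', map_ys, map_rotVal, Function.comp_def]

theorem rotate_val {L : ℕ} (i : Fin L) : (finRotate L i).val = (i.val + 1) % L := by
  obtain ⟨L, rfl⟩ : ∃ L', L = L' + 1 := ⟨L - 1, by have := i.isLt; omega⟩
  rw [finRotate_succ_apply, Fin.val_add]
  simp

/-- what the relations give -/
theorem exists_hom (hm : 1 ≤ m) (odd : Bool) (c g : G) (h : ∀ e ∈ eqs m odd c g, e.1 = e.2) :
    ∃ φ : alternatingGroup (Pt m) →* G, ∃ t : G, t * t = 1 ∧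
      (∀ x ∈ φ.range, t * x * t⁻¹ ∈ φ.range) ∧ c ∈ φ.range ∧ g * t ∈ φ.range ∧ (odd = false → t = 1) := by
  classical
  simp only [eqs, List.forall_mem_append, List.forall_mem_cons, List.forall_mem_ofFn_iff, List.not_mem_nil,
    IsEmpty.forall_iff, implies_true, and_true] at h
  obtain ⟨⟨h3, hper, ht⟩, hpair⟩ := h
  set ε := tw m odd
  let Y : ℕ → G := ys ε c g
  have huu : ∀ u v : ℤˣ, u * v * v = u := fun u v => by rw [mul_assoc, Int.units_mul_self, mul_one]
  have hY0 : Y 0 = c := by simp [Y, ys]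
  have hstep : ∀ i, g * Y i * g⁻¹ = Y (i + 1) ^ (ε : ℤ) := fun i => by
    simp only [Y, ys]
    rw [← conj_zpow, ← zpow_mul, ← Units.val_mul, pow_succ ε, huu,
      pow_succ' g]
    congr 1
    group
  have hshift : ∀ i, Y (i + m) = Y i := fun i => by
    simp only [Y, ys]
    rw [pow_add g, show g ^ i * g ^ m * c * (g ^ i * g ^ m)⁻¹ = g ^ i * (g ^ m * c * (g ^ m)⁻¹) * (g ^ i)⁻¹ by
      group, hper, conj_zpow.symm, ← zpow_mul, ← Units.val_mul, pow_add ε, mul_comm (ε ^ m), huu]
  have hmod : ∀ i, Y (i % m) = Y i := by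
    intro i
    induction i using Nat.strong_induction_on with
    | _ i ih =>
      rcases Nat.lt_or_ge i m with h | h
      · rw [Nat.mod_eq_of_lt h]
      · rw [Nat.mod_eq_sub_mod h, ih _ (by omega)]
        conv_rhs => rw [show i = i - m + m by omega, hshift]
  have hsq : ∀ j, 1 ≤ j → j < m → (Y 0 * Y j) ^ 2 = 1 := by
    have shift : ∀ j, (Y 0 * Y j) ^ 2 = 1 → ∀ i, (Y i * Y (i + j)) ^ 2 = 1 := by
      intro j hj i
      induction i with
      | zero => simpa using hj
      | succ i ih =>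
        refine sq_conj_unit ε (g := g) (hstep i) ?_ ih
        rw [show i + 1 + j = (i + j) + 1 by omega]
        exact hstep _
    intro j h1 h2
    rcases Nat.lt_or_ge (m / 2) j with h | h
    · have hj' : (Y 0 * Y (m - j)) ^ 2 = 1 := by
        have := hpair ⟨m - j - 1, by omega⟩
        simp only at this
        rw [show m - j - 1 + 1 = m - j by omega] at this
        rw [hY0]; exact this
      have := shift _ hj' j
      rw [show j + (m - j) = 0 + m by omega, hshift] at this
      exact sq_flip this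
    · have := hpair ⟨j - 1, by omega⟩
      simp only at this
      rw [show j - 1 + 1 = j by omega] at this
      rw [hY0]; exact this
  let y : Fin m → G := fun i => Y i.val
  have hy3 : ∀ i, y i ^ 3 = 1 := fun i => by
    simp only [y, Y, ys, ← zpow_natCast _ 3, ← zpow_mul]
    rw [mul_comm, zpow_mul, zpow_natCast, conj_pow, h3]
    simp
  have hpairs : ∀ i j : Fin m, i ≠ j → (y i * y j) ^ 2 = 1 := by
    have key : ∀ (i j : ℕ), i < j → j < m → (Y i * Y j) ^ 2 = 1 := by
      intro i j hij hj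
      induction i generalizing j with
      | zero => exact hsq j hij hj
      | succ i ih =>
        obtain ⟨j, rfl⟩ : ∃ j', j = j' + 1 := ⟨j - 1, by omega⟩
        exact sq_conj_unit ε (g := g) (hstep i) (hstep j) (ih j (by omega) (by omega))
    intro i j hij
    rcases lt_or_gt_of_ne hij with h | h
    · exact key _ _ h j.isLt
    · exact sq_flip (key _ _ h i.isLt)
  obtain ⟨φ, hφ⟩ := exists_alt_hom hm y hy3 hpairs
  set E := rotVal (m := m) ε c g with hE
  have hEH : E ∈ φ.range := by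
    refine ⟨evenExt (finRotate m), ?_⟩
    conv_lhs => rw [← AffData.word_spec (evenExt (finRotate m)), ← lift_comp_hom]
    simp only [hφ]
    rfl
  set t := E⁻¹ * g with ht'
  have htt : t * t = 1 ∧ (odd = false → t = 1) := by
    cases odd with
    | false =>
      have : t = 1 := by simpa using ht
      exact ⟨by rw [this, one_mul], fun _ => this⟩
    | true => exact ⟨by rw [← sq]; simpa using ht, fun e => by simp at e⟩
  refine ⟨φ, t, htt.1, ?_, ⟨cyc ⟨0, hm⟩, by rw [hφ]; exact hY0⟩, ?_, htt.2⟩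
  · have hle : φ.range ≤ φ.range.comap (MulAut.conj t).toMonoidHom := by
      rw [MonoidHom.range_eq_map, ← closure_cyc m, MonoidHom.map_closure, Subgroup.closure_le]
      rintro _ ⟨_, ⟨i, rfl⟩, rfl⟩
      rw [SetLike.mem_coe, Subgroup.mem_comap, ← MonoidHom.map_closure, closure_cyc, ← MonoidHom.range_eq_map]
      show t * φ (cyc i) * t⁻¹ ∈ φ.range
      rw [hφ, ht', show E⁻¹ * g * y i * (E⁻¹ * g)⁻¹ = E⁻¹ * (g * y i * g⁻¹) * E by group]
      refine mul_mem (mul_mem (inv_mem hEH) ?_) hEH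
      show g * Y i.val * g⁻¹ ∈ φ.range
      rw [hstep, ← hmod, ← rotate_val i]
      refine φ.range.zpow_mem ?_ _
      exact ⟨cyc (finRotate m i), hφ _⟩
    exact fun x hx => hle hx
  · rw [show g * t = E * (t * t) by rw [ht']; group, htt.1, mul_one]
    exact hEH

/-- the second generator -/
def gM (m : ℕ) (odd : Bool) : Perm (Pt m) :=
  (evenExt (finRotate m) : Perm (Pt m)) * Perm.sumCongr (if odd then swap 0 1 else 1) 1

theorem gM_conj (odd : Bool) (i : Fin m) :
    gM m odd * (cyc i : Perm (Pt m)) * (gM m odd)⁻¹ =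
      (cyc (finRotate m i) : Perm (Pt m)) ^ ((tw m odd : ℤˣ) : ℤ) := by
  set τ : Perm (Pt m) := Perm.sumCongr (if odd then swap 0 1 else 1) 1 with hτ
  have e : τ * (cyc i : Perm (Pt m)) * τ⁻¹ = (cyc i : Perm (Pt m)) ^ ((if odd then -1 else 1 : ℤˣ) : ℤ) := by
    cases odd with
    | false => simp [hτ]
    | true =>
      simp only [hτ, if_true, Units.val_neg, Units.val_one, zpow_neg, zpow_one]
      rw [cyc_inv]
      show _ * cycP i * _ = _
      set s := Perm.sumCongr (swap (0 : Fin 2) 1) (1 : Perm (Fin m))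
      rw [cycP, show s * (swap (Sum.inl 0) (Sum.inl 1) * swap (Sum.inl 1) (Sum.inr i)) * s⁻¹ =
        (s * swap (Sum.inl 0) (Sum.inl 1) * s⁻¹) * (s * swap (Sum.inl 1) (Sum.inr i) * s⁻¹) by group,
        ← swap_apply_apply, ← swap_apply_apply]
      ext x
      rcases x with x | x
      · fin_cases x <;> simp [s, swap_apply_def]
      · by_cases hx : x = i
        · subst hx; simp [s, swap_apply_def]
        · simp [s, swap_apply_def, hx]
  rw [gM, ← hτ, show (evenExt (finRotate m) : Perm (Pt m)) * τ * (cyc i : Perm (Pt m)) *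
      ((evenExt (finRotate m) : Perm (Pt m)) * τ)⁻¹ = (evenExt (finRotate m) : Perm (Pt m)) *
      (τ * (cyc i : Perm (Pt m)) * τ⁻¹) * (evenExt (finRotate m) : Perm (Pt m))⁻¹ by group, e, ← conj_zpow,
    ← Subgroup.coe_inv, ← Subgroup.coe_mul, ← Subgroup.coe_mul, evenExt_cyc, Subgroup.coe_zpow, ← zpow_mul,
    ← Units.val_mul, tw]

theorem ys_model (hm : 1 ≤ m) (odd : Bool) : ∀ i, ys (tw m odd) (cyc ⟨0, hm⟩ : Perm (Pt m)) (gM m odd) i =
    (cyc ⟨i % m, Nat.mod_lt _ hm⟩ : Perm (Pt m)) := by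
  intro i
  induction i with
  | zero => simp [ys]
  | succ i ih =>
    set ε := tw m odd
    have : ys ε (cyc ⟨0, hm⟩ : Perm (Pt m)) (gM m odd) (i + 1) =
        (gM m odd * ys ε (cyc ⟨0, hm⟩ : Perm (Pt m)) (gM m odd) i * (gM m odd)⁻¹) ^ (ε : ℤ) := by
      simp only [ys]
      rw [← conj_zpow, ← zpow_mul, ← Units.val_mul, ← pow_succ, pow_succ' (gM m odd)]
      simp only [mul_assoc, _root_.mul_inv_rev]
    rw [this, ih, gM_conj, ← zpow_mul, ← Units.val_mul, Int.units_mul_self, Units.val_one, zpow_one]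
    congr 2
    exact Fin.ext (by rw [rotate_val]; simp [Nat.add_mod])

theorem eqs_model (hm : 1 ≤ m) (odd : Bool) :
    ∀ e ∈ eqs m odd (cyc ⟨0, hm⟩ : Perm (Pt m)) (gM m odd), e.1 = e.2 := by
  set c : Perm (Pt m) := (cyc ⟨0, hm⟩ : Perm (Pt m)) with hc
  set g := gM m odd
  have hys := ys_model hm odd
  have hrot : rotVal (m := m) (tw m odd) c g = (evenExt (finRotate m) : Perm (Pt m)) := by
    rw [rotVal]
    have : (fun i : Fin m => ys (tw m odd) c g i) = fun i => (alternatingGroup (Pt m)).subtype (cyc i) := by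
      funext i
      rw [hys]
      simp [Nat.mod_eq_of_lt i.isLt]
    rw [this, lift_comp_hom, AffData.word_spec]
    rfl
  simp only [eqs, List.forall_mem_append, List.forall_mem_cons, List.forall_mem_ofFn_iff, List.not_mem_nil,
    IsEmpty.forall_iff, implies_true, and_true, hys, hrot]
  refine ⟨⟨?_, ?_, ?_⟩, fun j => ?_⟩
  · rw [hc, ← SubmonoidClass.coe_pow, cyc_cube]; rfl
  · have h := hys m
    rw [ys] at h
    simp only [Nat.mod_self] at h
    conv_rhs => rw [hc, ← h]
    rw [← zpow_mul, ← Units.val_mul, Int.units_mul_self, Units.val_one, zpow_one]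
  · cases odd with
    | false =>
      simp only [g, gM, Bool.false_eq_true, if_false, inv_mul_cancel_left]
      simp
    | true =>
      simp only [g, gM, if_true, inv_mul_cancel_left, sq]
      rw [Perm.sumCongr_mul, swap_mul_self, one_mul]
      simp
  · rw [hys, hc, ← Subgroup.coe_mul, ← SubmonoidClass.coe_pow, cyc_pair]
    · rfl
    · intro e
      have := congrArg Fin.val e
      simp only at this
      have hj := j.isLt
      rw [Nat.mod_eq_of_lt (by omega)] at this
      omega

theorem sign_gM (odd : Bool) : sign (gM m odd) = if odd then -1 else 1 := by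
  have h : sign (evenExt (finRotate m) : Perm (Pt m)) = 1 := (evenExt (finRotate m)).2
  cases odd <;> simp [gM, map_mul, h, sign_sumCongr]

theorem presentation (hm : 1 ≤ m) (odd : Bool) {K : Type*} [Group K] [Finite K] (ι : K →* Perm (Pt m))
    (hι : Function.Injective ι) (hgr : gM m odd ∈ ι.range) (hAr : alternatingGroup (Pt m) ≤ ι.range)
    (hgen : ∀ U : Subgroup K, alternatingGroup (Pt m) ≤ U.map ι → gM m odd ∈ U.map ι → U = ⊤)
    (hK : if odd then 2 * Nat.card (alternatingGroup (Pt m)) ≤ Nat.card K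
      else Nat.card (alternatingGroup (Pt m)) ≤ Nat.card K) :
    ∃ rels : Finset (FreeGroup (Fin 2)), rels.card ≤ 3 + m / 2 ∧
      Nonempty (PresentedGroup (↑rels : Set (FreeGroup (Fin 2))) ≃* K) := by
  classical
  obtain ⟨gK', hgK'⟩ := hgr
  obtain ⟨cK, hcK⟩ := hAr (cyc (m := m) ⟨0, hm⟩).2
  let gK : Fin 2 → K := ![cK, gK']
  have g0 : ι (gK 0) = (cyc ⟨0, hm⟩ : Perm (Pt m)) := hcK
  have g1 : ι (gK 1) = gM m odd := hgK'
  let L := (eqs m odd (FreeGroup.of (0 : Fin 2)) (FreeGroup.of 1)).map fun e => e.1 * e.2⁻¹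
  have iff' : ∀ {G : Type _} [Group G] (g : Fin 2 → G),
      (∀ x ∈ L.toFinset, FreeGroup.lift g x = 1) ↔ ∀ e ∈ eqs m odd (g 0) (g 1), e.1 = e.2 := by
    intro G _ g
    have e : eqs m odd (g 0) (g 1) = (eqs m odd (FreeGroup.of (0 : Fin 2)) (FreeGroup.of 1)).map
        (Prod.map (FreeGroup.lift g) (FreeGroup.lift g)) := by
      rw [← map_eqs]; simp only [FreeGroup.lift_apply_of]
    rw [e]
    simp only [L, List.mem_toFinset, List.mem_map, List.forall_mem_map, forall_exists_index, and_imp,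
      forall_apply_eq_imp_iff₂, map_mul, map_inv, mul_inv_eq_one, Prod.map_fst, Prod.map_snd]
  have hrel : ∀ x ∈ L.toFinset, FreeGroup.lift gK x = 1 := by
    intro x hx
    apply hι
    rw [← lift_comp_hom, map_one]
    refine (iff' fun i => ι (gK i)).2 ?_ x hx
    rw [g0, g1]
    exact eqs_model hm odd
  have hclos : Subgroup.closure (Set.range gK) = ⊤ := by
    set U := Subgroup.closure (Set.range gK)
    have hc : (cyc ⟨0, hm⟩ : Perm (Pt m)) ∈ U.map ι := g0 ▸ ⟨_, Subgroup.subset_closure ⟨0, rfl⟩, rfl⟩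
    have hg : gM m odd ∈ U.map ι := g1 ▸ ⟨_, Subgroup.subset_closure ⟨1, rfl⟩, rfl⟩
    refine hgen U (fun x hx => ?_) hg
    have hle : Subgroup.closure (Set.range (cyc (m := m))) ≤ (U.map ι).comap (alternatingGroup (Pt m)).subtype := by
      refine (Subgroup.closure_le _).2 ?_
      rintro _ ⟨i, rfl⟩
      show (cyc i : Perm (Pt m)) ∈ U.map ι
      have := ys_model hm odd i.val
      simp only [Nat.mod_eq_of_lt i.isLt, Fin.eta] at this
      rw [← this]
      exact zpow_mem (mul_mem (mul_mem (pow_mem hg _) hc) (inv_mem (pow_mem hg _))) _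
    exact hle (show (⟨x, hx⟩ : alternatingGroup (Pt m)) ∈ _ by rw [closure_cyc]; trivial)
  let G := PresentedGroup (↑L.toFinset : Set (FreeGroup (Fin 2)))
  let g : Fin 2 → G := PresentedGroup.of
  have hG : ∀ e ∈ eqs m odd (g 0) (g 1), e.1 = e.2 := (iff' g).1 fun x hx => by
    have : FreeGroup.lift g = PresentedGroup.mk (↑L.toFinset : Set (FreeGroup (Fin 2))) :=
      FreeGroup.ext_hom _ _ fun i => by simp [g]; rfl
    rw [this]; exact PresentedGroup.one_of_mem hx
  obtain ⟨φ, t, htt, hn, hcH, hgH, htH⟩ := exists_hom hm odd (g 0) (g 1) hG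
  have hmem : ∀ x ∈ Set.range g, x ∈ φ.range ∨ x * t ∈ φ.range := by
    rintro _ ⟨i, rfl⟩
    fin_cases i
    · exact Or.inl hcH
    · exact Or.inr hgH
  obtain ⟨hfin, h2c, h1c⟩ := card_le_of_two φ t htt hn (PresentedGroup.closure_range_of _) hmem
  have hcard : Nat.card G ≤ Nat.card K := by
    cases odd with
    | false => exact (h1c (htH rfl ▸ one_mem _)).trans (by simpa using hK)
    | true => exact h2c.trans (by simpa using hK)
  obtain ⟨e, -⟩ := presented_iso L.toFinset gK hrel hclos ⟨hfin, hcard⟩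
  exact ⟨L.toFinset, (List.toFinset_card_le _).trans (by simp [L, eqs]; omega), ⟨e⟩⟩

theorem presentation_alt (hm : 1 ≤ m) : ∃ rels : Finset (FreeGroup (Fin 2)), rels.card ≤ 3 + m / 2 ∧
    Nonempty (PresentedGroup (↑rels : Set (FreeGroup (Fin 2))) ≃* alternatingGroup (Pt m)) :=
  presentation hm false (alternatingGroup (Pt m)).subtype (Subgroup.subtype_injective _)
    ⟨⟨gM m false, by rw [mem_alternatingGroup, sign_gM]; rfl⟩, rfl⟩ (fun x hx => ⟨⟨x, hx⟩, rfl⟩)
    (fun U hU _ => Subgroup.map_injective (Subgroup.subtype_injective _)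
      (le_antisymm (Subgroup.map_mono le_top) (by rw [← MonoidHom.range_eq_map, Subgroup.range_subtype]; exact hU)))
    (by simp)

theorem presentation_perm (hm : 1 ≤ m) : ∃ rels : Finset (FreeGroup (Fin 2)), rels.card ≤ 3 + m / 2 ∧
    Nonempty (PresentedGroup (↑rels : Set (FreeGroup (Fin 2))) ≃* Perm (Pt m)) := by
  refine presentation hm true (MonoidHom.id _) Function.injective_id ⟨_, rfl⟩ (fun x _ => ⟨x, rfl⟩) ?_ ?_
  · intro U hU hg
    rw [Subgroup.map_id] at hU hg
    refine eq_top_iff.2 fun x _ => ?_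
    rcases Int.units_eq_one_or (sign x) with h | h
    · exact hU h
    · have : x * gM m true ∈ U := hU (by
        rw [mem_alternatingGroup, map_mul, h, sign_gM]; rfl)
      have := U.mul_mem this (U.inv_mem hg)
      rwa [mul_inv_cancel_right] at this
  · haveI : Nontrivial (Pt m) := ⟨⟨.inl 0, .inl 1, by simp⟩⟩
    simp only [if_true]
    rw [two_mul_nat_card_alternatingGroup]

end Rot

end CfsgLib.Lie.BoundedPres
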