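import Cfsg.Agent.Lib.Lie.BoundedPres.Alt.Affine
import Cfsg.Agent.Lib.Lie.BoundedPres.SysHom

/-!
# Two overlapping copies of `A_{p+2}` from seven relations

The third generator is the product of the base three-cycle and an involution exchanging the two copies.
-/

set_option autoImplicit false

namespace CfsgLib.Lie.BoundedPres

open Equiv Equiv.Perm

/-- along the orbit of a rotation -/
theorem orbit_step {L : ℕ} (hL : 0 < L) (Q : Fin L → Prop) (h0 : Q ⟨0, hL⟩) (hs : ∀ i, Q i → Q (finRotate L i))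
    (i : Fin L) : Q i := by
  obtain ⟨L, rfl⟩ : ∃ L', L = L' + 1 := ⟨L - 1, by omega⟩
  induction i using Fin.induction with
  | zero => exact h0
  | succ i ih =>
    have := hs _ ih
    rwa [finRotate_succ_apply, Fin.coeSucc_eq_succ] at this

/-- where the two copies lie -/
structure TwoCfg (p m L L₁ : ℕ) extends AffData p where
  e1 : Fin p ↪ Fin m
  f : Perm (Fin m)
  π : Perm (Fin p)
  eC : Fin L ↪ Fin p
  eD : Fin L₁ ↪ Fin p
  hL : 0 < L
  hL₁ : 0 < L₁
  hi0 : i0 = eC ⟨0, hL⟩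
  split : ∀ i, (∃ a, i = eC a) ∨ ∃ b, i = eD b
  disj : ∀ a b, eC a ≠ eD b
  hf : ∀ j, f (f j) = j
  hfC : ∀ a, f (e1 (eC a)) = e1 (π (eC a))
  hπ : ∀ i, π (π i) = i
  hπD : ∀ b, π (eD b) = eD b
  hπ0 : π i0 = i0
  cover : ∀ j, (∃ i, j = e1 i) ∨ ∃ b, j = f (e1 (eD b))
  out : ∀ b i, f (e1 (eD b)) ≠ e1 i

namespace TwoCfg

variable {p m L L₁ : ℕ} (C : TwoCfg p m L L₁) {G : Type*} [Group G]

/-- the rotation of the overlap -/
noncomputable def sC : Perm (Fin p) := viaEmbedding (finRotate L) C.eC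

/-- the rotation of the private part -/
noncomputable def sD : Perm (Fin p) := viaEmbedding (finRotate L₁) C.eD

/-- the pivot -/
def pivot : Fin p := C.π (C.eC ⟨L - 1, by have := C.hL; omega⟩)

/-- the three-cycle of the generators -/
def cw (w : G) : G := (w ^ 2)⁻¹

/-- the involution of the generators -/
def zw (w : G) : G := w ^ 3

/-- an element of the first copy -/
noncomputable def v1 (r w : G) (x : alternatingGroup (Pt p)) : G := C.toAffData.val r (cw w) x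

/-- the correction at the multiplication -/
noncomputable def σv (r s w : G) : G := s * (C.v1 r w (evenExt C.S))⁻¹

/-- a transposition of the two private parts -/
noncomputable def Tv (r w : G) (b : Fin L₁) : G :=
  C.v1 r w (evenExt (swap (C.eD b) C.pivot)) *
    (zw w * C.v1 r w (evenExt (swap (C.eD b) (C.π C.pivot))) * (zw w)⁻¹) *
    C.v1 r w (evenExt (swap (C.eD b) C.pivot))

/-- the exchange inside the two copies -/
noncomputable def Wv (r w : G) : G := C.v1 r w (evenExt C.π) * ((List.finRange L₁).map (C.Tv r w)).prod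

/-- the correction in the fifth relation -/
noncomputable def Xv (even : Bool) (r s w : G) : G :=
  if even then C.σv r s w * (zw w * C.Wv r w) else C.σv r s w

/-- the seven relations -/
noncomputable def eqs (even : Bool) (r s w : G) : List (G × G) :=
  [(r ^ p, w ^ 6), (s * r ^ C.a0 * s⁻¹ * r, r ^ C.a0),
    (s * cw w * s⁻¹, cw w ^ ((sign C.S : ℤˣ) : ℤ)), ((cw w * (r * cw w * r⁻¹)) ^ 2, 1),
    (zw w * C.v1 r w (evenExt C.sC) * (zw w)⁻¹, C.v1 r w (evenExt (C.π * C.sC * C.π)) * C.Xv even r s w),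
    (C.v1 r w (evenExt C.sD) * (zw w * (r * C.σv r s w) * (zw w)⁻¹),
      zw w * C.v1 r w (evenExt C.R) * (zw w)⁻¹ * C.v1 r w (evenExt C.sD)),
    ((C.v1 r w (cyc (C.eD ⟨0, C.hL₁⟩)) * (zw w * C.v1 r w (cyc (C.eD ⟨0, C.hL₁⟩)) * (zw w)⁻¹)) ^ 2, 1)]

theorem map_eqs {H : Type*} [Group H] (f : G →* H) (even : Bool) (r s w : G) :
    C.eqs even (f r) (f s) (f w) = (C.eqs even r s w).map (Prod.map f f) := by
  have hc : cw (f w) = f (cw w) := by simp [cw]
  have hz : zw (f w) = f (zw w) := by simp [zw]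
  have hv : ∀ x, C.v1 (f r) (f w) x = f (C.v1 r w x) := fun x => by
    simp only [v1, hc, AffData.map_val]
  have hσ : C.σv (f r) (f s) (f w) = f (C.σv r s w) := by simp [σv, hv]
  have hT : C.Tv (f r) (f w) = fun b => f (C.Tv r w b) := funext fun b => by simp [Tv, hv, hz]
  have hW : C.Wv (f r) (f w) = f (C.Wv r w) := by
    simp [Wv, hv, hT, map_list_prod, List.map_map, Function.comp_def]
  cases even <;> simp [eqs, Xv, hv, hz, hc, hσ, hW]

theorem sC_apply (a : Fin L) : C.sC (C.eC a) = C.eC (finRotate L a) := viaEmbedding_apply _ _ a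

theorem sC_fix (b : Fin L₁) : C.sC (C.eD b) = C.eD b :=
  viaEmbedding_apply_of_notMem _ _ _ fun ⟨a, ha⟩ => C.disj a b ha

theorem sD_apply (b : Fin L₁) : C.sD (C.eD b) = C.eD (finRotate L₁ b) := viaEmbedding_apply _ _ b

theorem sD_fix (a : Fin L) : C.sD (C.eC a) = C.eC a :=
  viaEmbedding_apply_of_notMem _ _ _ fun ⟨b, hb⟩ => C.disj a b hb.symm

theorem π_mem (a : Fin L) : ∃ a', C.π (C.eC a) = C.eC a' := by
  rcases C.split (C.π (C.eC a)) with h | ⟨b, hb⟩
  · exact h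
  · exact absurd (by rw [← C.hπ (C.eC a), hb, C.hπD] : C.eC a = C.eD b) (C.disj a b)

theorem zpow_of_conj {x y g : G} (u : ℤˣ) (h : g * x * g⁻¹ = y ^ (u : ℤ)) :
    g * (x ^ (u : ℤ)) * g⁻¹ = y := by
  rw [← conj_zpow, h, zpow_zpow_unit]

/-- what the seven relations give -/
theorem exists_hom (hp : p.Prime) (hp2 : p ≠ 2) (even : Bool)
    (hpar : even = true → (-1 : ℤˣ) ^ L₁ * sign C.π = 1)
    (r s w : G) (h : ∀ e ∈ C.eqs even r s w, e.1 = e.2) :
    ∃ φ : alternatingGroup (Pt m) →* G, zw w * zw w = 1 ∧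
      (∀ g ∈ φ.range, zw w * g * (zw w)⁻¹ ∈ φ.range) ∧
      r ∈ φ.range ∧ s ∈ φ.range ∧ cw w ∈ φ.range ∧ (even = true → zw w ∈ φ.range) := by
  classical
  simp only [eqs, List.forall_mem_cons, List.not_mem_nil, IsEmpty.forall_iff, implies_true, and_true] at h
  obtain ⟨h1, h2, h3, h4, h5, h6, h7⟩ := h
  set c := cw w with hc
  set z := zw w with hz
  set Z := w ^ 6 with hZ
  set a := C.a0
  set u := sign C.S
  have hcZ : c ^ 3 = Z⁻¹ := by rw [hc, cw, inv_pow, ← pow_mul]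
  have czr : Commute Z r := by rw [← h1]; exact (Commute.refl r).pow_left p
  -- the common value of `r ^ p` and `w ^ 6` is trivial
  have hZ1 : Z = 1 := by
    have hd : (r * c * r⁻¹) ^ 3 = c ^ 3 := by
      rw [conj_pow, hcZ, czr.symm.inv_right.eq, mul_inv_cancel_right]
    have h8 : Z ^ 8 = 1 := by
      have := cube_pow_eight hd h4
      rwa [hcZ, inv_pow, inv_eq_one] at this
    have hs : s * Z * s⁻¹ = Z ^ (u : ℤ) := by
      have := congrArg (fun x => x ^ 3) h3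
      beta_reduce at this
      rw [conj_pow, hcZ, ← zpow_natCast (c ^ (u : ℤ)), ← zpow_mul, mul_comm, zpow_mul, zpow_natCast, hcZ] at this
      rw [← inv_inj, ← inv_zpow, ← this]
      group
    have hu : Z ^ ((u : ℤ) * a) * Z = Z ^ a := by
      have e : s * r ^ a * s⁻¹ = r ^ a * r⁻¹ := eq_mul_inv_of_mul_eq h2
      have := congrArg (fun x => x ^ p) e
      beta_reduce at this
      have ep : (r ^ a) ^ p = Z ^ a := by rw [← pow_mul, mul_comm, pow_mul, h1]
      rw [conj_pow, ep, ((Commute.refl r).inv_right.pow_left a).mul_pow, ep, inv_pow, h1, ← conj_pow, hs] at this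
      rw [zpow_mul, zpow_natCast, this, inv_mul_cancel_right]
    rcases Int.units_eq_one_or u with e | e
    · rw [e, Units.val_one, one_mul, zpow_natCast, mul_eq_left] at hu
      exact hu
    · have h2a : Z ^ ((2 : ℤ) * a - 1) = 1 := by
        rw [e] at hu
        simp only [Units.val_neg, Units.val_one, neg_mul, one_mul, zpow_neg, zpow_natCast] at hu
        rw [inv_mul_eq_iff_eq_mul] at hu
        rw [zpow_sub, zpow_one, zpow_mul, zpow_natCast, show Z ^ (2 : ℤ) = Z * Z by simp [zpow_ofNat, sq],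
          ((Commute.refl Z)).mul_pow, ← hu, mul_inv_cancel]
      obtain ⟨t, ht⟩ := Int.even_mul_pred_self (a : ℤ)
      have e8 : Z ^ ((2 * (a : ℤ) - 1) * (2 * a - 1)) = Z := by
        rw [show (2 * (a : ℤ) - 1) * (2 * a - 1) = 8 * t + 1 by nlinarith, zpow_add, zpow_one, zpow_mul,
          show (8 : ℤ) = ((8 : ℕ) : ℤ) from rfl, zpow_natCast, h8, one_zpow, one_mul]
      rw [← e8, zpow_mul, h2a, one_zpow]
  have hrp : r ^ p = 1 := by rw [h1, hZ1]
  have hc3 : c ^ 3 = 1 := by rw [hcZ, hZ1, inv_one]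
  have hzz : z * z = 1 := by rw [hz, zw, ← pow_add]; exact hZ1
  have hzi : z⁻¹ = z := inv_eq_of_mul_eq_one_right hzz
  have hzc : z * c * z⁻¹ = c := by rw [hz, hc, zw, cw]; group
  have hsr : s * r * s⁻¹ = r ^ C.N := by
    obtain ⟨b, hb⟩ := C.ha0
    have eab : r ^ (a * b) = r := by
      conv_rhs => rw [← pow_one r]
      exact pow_eq_pow_iff_modEq.2 (hb.of_dvd (orderOf_dvd_of_pow_eq_one hrp))
    have ea : s * r ^ a * s⁻¹ = r ^ (C.N * a) := by
      rw [eq_mul_inv_of_mul_eq h2, mul_inv_eq_iff_eq_mul, ← pow_succ]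
      exact (pow_eq_pow_iff_modEq.2 (C.hN.of_dvd (orderOf_dvd_of_pow_eq_one hrp))).symm
    calc s * r * s⁻¹ = (s * r ^ a * s⁻¹) ^ b := by rw [conj_pow, ← pow_mul, eab]
      _ = r ^ C.N := by rw [ea, ← pow_mul, mul_assoc, mul_comm, pow_mul, eab]
  obtain ⟨φ1, hφ1, hφ0, hr1, hs1⟩ := C.toAffData.exists_hom hc3 hrp hsr h3 h4
  have hv : ∀ x, C.v1 r w x = φ1 x := C.toAffData.val_eq_hom φ1 hφ1
  simp only [hv] at h5 h6 h7
  let y1 : Fin p → G := fun i => φ1 (cyc i)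
  let y2 : Fin p → G := fun i => z * y1 i * z⁻¹
  have hz2 : ∀ i, z * y2 i * z⁻¹ = y1 i := fun i => by
    show z * (z * y1 i * z⁻¹) * z⁻¹ = _
    rw [show z * (z * y1 i * z⁻¹) * z⁻¹ = (z * z) * y1 i * (z * z)⁻¹ by group, hzz]; group
  have hconj : ∀ g i, φ1 (evenExt g) * y1 i * (φ1 (evenExt g))⁻¹ = y1 (g i) ^ ((sign g : ℤˣ) : ℤ) :=
    fun g i => by
      show φ1 _ * φ1 _ * (φ1 _)⁻¹ = _
      rw [← map_inv, ← map_mul, ← map_mul, evenExt_cyc, map_zpow]
  set σ := C.σv r s w with hσdef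
  have hσ : ∀ i, σ * y1 i * σ⁻¹ = y1 i := fun i => by
    have e := hs1 ((evenExt C.S)⁻¹ * cyc i * evenExt C.S)
    rw [show evenExt C.S * ((evenExt C.S)⁻¹ * cyc i * evenExt C.S) * (evenExt C.S)⁻¹ = cyc i by group] at e
    rw [hσdef, σv, hv]
    simp only [map_mul, map_inv] at e
    rw [show s * (φ1 (evenExt C.S))⁻¹ * y1 i * (s * (φ1 (evenExt C.S))⁻¹)⁻¹ =
      s * ((φ1 (evenExt C.S))⁻¹ * φ1 (cyc i) * φ1 (evenExt C.S)) * s⁻¹ by simp only [y1]; group, e]
  -- the overlap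
  set q := C.pivot with hq
  have hW : ∀ i, i ≠ q → (∀ b, i ≠ C.eD b) → z * y1 (C.π i) * z⁻¹ = y1 i →
      even = true → C.Wv r w * y1 i * (C.Wv r w)⁻¹ = y1 (C.π i) := by
    intro i hiq hiD hyp hev
    have hT : ∀ b, C.Tv r w b * y1 i * (C.Tv r w b)⁻¹ = (y1 i)⁻¹ := by
      intro b
      set P := φ1 (evenExt (swap (C.eD b) q)) with hP
      set Q := φ1 (evenExt (swap (C.eD b) (C.π q))) with hQ
      have sgn : ∀ x, C.eD b ≠ x → sign (swap (C.eD b) x) = -1 := fun x hx => sign_swap hx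
      have hqD : C.eD b ≠ q := fun e => by
        obtain ⟨a', ha'⟩ := C.π_mem ⟨L - 1, by have := C.hL; omega⟩
        exact C.disj a' b (by rw [← ha']; exact e.symm)
      have hqD' : C.eD b ≠ C.π q := fun e => hqD (by rw [← C.hπD b, e, C.hπ])
      have hPi : P * y1 i * P⁻¹ = (y1 i)⁻¹ := by
        rw [hP, hconj, swap_apply_of_ne_of_ne (hiD b) hiq, sgn _ hqD]; simp
      have hQi : z * Q * z⁻¹ * y1 i * (z * Q * z⁻¹)⁻¹ = (y1 i)⁻¹ := by
        have hπi : C.π i ≠ C.eD b := fun e => hiD b (by rw [← C.hπ i, e, C.hπD])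
        have hback : z⁻¹ * y1 i * z = y1 (C.π i) := by rw [← hyp]; group
        calc z * Q * z⁻¹ * y1 i * (z * Q * z⁻¹)⁻¹ = z * (Q * (z⁻¹ * y1 i * z) * Q⁻¹) * z⁻¹ := by group
          _ = z * (y1 (C.π i))⁻¹ * z⁻¹ := by
              rw [hback, hQ, hconj, swap_apply_of_ne_of_ne hπi (C.π.injective.ne hiq), sgn _ hqD']; simp
          _ = (z * y1 (C.π i) * z⁻¹)⁻¹ := by group
          _ = _ := by rw [hyp]
      have hPinv : P * (y1 i)⁻¹ * P⁻¹ = y1 i := by
        rw [← conj_inv, hPi, inv_inv]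
      rw [Tv, hv, hv, ← hP, ← hQ, ← hz]
      calc P * (z * Q * z⁻¹) * P * y1 i * (P * (z * Q * z⁻¹) * P)⁻¹
          = P * ((z * Q * z⁻¹) * (P * y1 i * P⁻¹) * (z * Q * z⁻¹)⁻¹) * P⁻¹ := by group
        _ = P * ((z * Q * z⁻¹) * (y1 i)⁻¹ * (z * Q * z⁻¹)⁻¹) * P⁻¹ := by rw [hPi]
        _ = P * y1 i * P⁻¹ := by rw [← conj_inv, hQi, inv_inv]
        _ = _ := hPi
    have hprod : ∀ l : List (Fin L₁), (l.map (C.Tv r w)).prod * y1 i * ((l.map (C.Tv r w)).prod)⁻¹ =
        y1 i ^ (((-1 : ℤˣ) ^ l.length : ℤˣ) : ℤ) := by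
      intro l
      induction l with
      | nil => simp
      | cons b l ih =>
        rw [List.map_cons, List.prod_cons, List.length_cons, pow_succ',
          show C.Tv r w b * (l.map (C.Tv r w)).prod * y1 i * (C.Tv r w b * (l.map (C.Tv r w)).prod)⁻¹ =
            C.Tv r w b * ((l.map (C.Tv r w)).prod * y1 i * ((l.map (C.Tv r w)).prod)⁻¹) * (C.Tv r w b)⁻¹ by group,
          ih, ← conj_zpow, hT]
        simp [zpow_neg]
    rw [Wv, hv, show ∀ A B x : G, A * B * x * (A * B)⁻¹ = A * (B * x * B⁻¹) * A⁻¹ from fun _ _ _ => by group,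
      hprod, List.length_finRange, ← conj_zpow, hconj, ← zpow_mul, ← Units.val_mul, mul_comm, hpar hev,
      Units.val_one, zpow_one]
  have hov : ∀ a : Fin L, z * y1 (C.eC a) * z⁻¹ = y1 (C.π (C.eC a)) := by
    obtain ⟨L', rfl⟩ : ∃ L', L = L' + 1 := ⟨L - 1, by have := C.hL; omega⟩
    intro a
    induction a using Fin.induction with
    | zero =>
      rw [show C.eC 0 = C.i0 from C.hi0.symm, C.hπ0]
      show z * φ1 _ * z⁻¹ = φ1 _
      rw [hφ0, hzc]
    | succ a ih =>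
      have hrot : C.sC (C.eC a.castSucc) = C.eC a.succ := by
        rw [C.sC_apply, finRotate_succ_apply]
        congr 1
        exact Fin.coeSucc_eq_succ
      set δ := sign C.sC
      set i := C.eC a.castSucc with hi
      have hfwd : φ1 (evenExt C.sC) * y1 i * (φ1 (evenExt C.sC))⁻¹ = y1 (C.eC a.succ) ^ (δ : ℤ) := by
        rw [hconj, hrot]
      have hX : C.Xv even r s w * y1 (C.π i) * (C.Xv even r s w)⁻¹ = y1 (C.π i) := by
        cases even with
        | false => simpa [Xv] using hσ (C.π i)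
        | true =>
          obtain ⟨a', ha'⟩ := C.π_mem a.castSucc
          have hne : C.π i ≠ q := by
            intro e
            have h' := C.eC.injective (C.π.injective e)
            simp [Fin.ext_iff] at h'
            omega
          have hyp : z * y1 (C.π (C.π i)) * z⁻¹ = y1 (C.π i) := by rw [C.hπ]; exact ih
          have := hW (C.π i) hne (fun b e => C.disj a' b (ha'.symm.trans e)) hyp rfl
          rw [C.hπ] at this
          simp only [Xv, if_true]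
          rw [show σ * (z * C.Wv r w) * y1 (C.π i) * (σ * (z * C.Wv r w))⁻¹ =
            σ * (z * (C.Wv r w * y1 (C.π i) * (C.Wv r w)⁻¹) * z⁻¹) * σ⁻¹ by group, this, ih, hσ]
      have key : z * (φ1 (evenExt C.sC) * y1 i * (φ1 (evenExt C.sC))⁻¹) * z⁻¹ =
          y1 (C.π (C.eC a.succ)) ^ (δ : ℤ) := by
        rw [show z * (φ1 (evenExt C.sC) * y1 i * (φ1 (evenExt C.sC))⁻¹) * z⁻¹ =
          (z * φ1 (evenExt C.sC) * z⁻¹) * (z * y1 i * z⁻¹) * (z * φ1 (evenExt C.sC) * z⁻¹)⁻¹ by group, h5, ih,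
          show ∀ A B x : G, A * B * x * (A * B)⁻¹ = A * (B * x * B⁻¹) * A⁻¹ from fun _ _ _ => by group, hX,
          hconj, Perm.mul_apply, Perm.mul_apply, C.hπ, hrot, map_mul, map_mul, mul_comm (sign C.π), mul_assoc,
          Int.units_mul_self, mul_one]
      rw [hfwd, ← conj_zpow] at key
      exact (zpow_zpow_unit _ δ).symm.trans ((congrArg (fun x => x ^ (δ : ℤ)) key).trans (zpow_zpow_unit _ δ))
  -- the private parts
  set h₁ := φ1 (evenExt C.sD) with hh1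
  set δD := sign C.sD
  have hD2 : ∀ j, h₁ * y2 j * h₁⁻¹ = y2 j ^ (δD : ℤ) := by
    have base : h₁ * y2 C.i0 * h₁⁻¹ = y2 C.i0 ^ (δD : ℤ) := by
      have e0 : y2 C.i0 = y1 C.i0 := by
        show z * φ1 _ * z⁻¹ = φ1 _
        rw [hφ0, hzc]
      rw [e0, hh1, hconj, show C.sD C.i0 = C.i0 by rw [C.hi0]; exact C.sD_fix _]
    have step : ∀ j, h₁ * y2 j * h₁⁻¹ = y2 j ^ (δD : ℤ) → h₁ * y2 (C.R j) * h₁⁻¹ = y2 (C.R j) ^ (δD : ℤ) := by
      intro j hj
      set R₂ := z * (r * σ) * z⁻¹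
      set R₂' := z * φ1 (evenExt C.R) * z⁻¹
      have eR : ∀ x, R₂ * (z * x * z⁻¹) * R₂⁻¹ = z * (r * (σ * x * σ⁻¹) * r⁻¹) * z⁻¹ := fun x => by
        simp only [R₂]; group
      have e1 : R₂ * y2 j * R₂⁻¹ = y2 (C.R j) := by
        show R₂ * (z * y1 j * z⁻¹) * R₂⁻¹ = z * y1 _ * z⁻¹
        rw [eR, hσ, hr1]
      have e2 : R₂' * y2 j * R₂'⁻¹ = y2 (C.R j) := by
        show z * φ1 _ * z⁻¹ * (z * y1 j * z⁻¹) * (z * φ1 _ * z⁻¹)⁻¹ = z * y1 _ * z⁻¹
        rw [show z * φ1 (evenExt C.R) * z⁻¹ * (z * y1 j * z⁻¹) * (z * φ1 (evenExt C.R) * z⁻¹)⁻¹ =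
          z * (φ1 (evenExt C.R) * y1 j * (φ1 (evenExt C.R))⁻¹) * z⁻¹ by group, hconj, C.hR, Units.val_one,
          zpow_one]
      calc h₁ * y2 (C.R j) * h₁⁻¹ = (h₁ * R₂) * y2 j * (h₁ * R₂)⁻¹ := by rw [← e1]; group
        _ = (R₂' * h₁) * y2 j * (R₂' * h₁)⁻¹ := by rw [h6]
        _ = R₂' * (h₁ * y2 j * h₁⁻¹) * R₂'⁻¹ := by group
        _ = _ := by rw [hj, ← conj_zpow, e2]
    intro j
    obtain ⟨b, rfl⟩ := C.hcov j
    induction b with
    | zero => simpa using base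
    | succ b ih => rw [pow_succ', Perm.mul_apply]; exact step _ ih
  have hD1 : ∀ j, (z * h₁ * z⁻¹) * y1 j * (z * h₁ * z⁻¹)⁻¹ = y1 j ^ (δD : ℤ) := by
    intro j
    calc (z * h₁ * z⁻¹) * y1 j * (z * h₁ * z⁻¹)⁻¹
        = (z * h₁ * z⁻¹) * (z * y2 j * z⁻¹) * (z * h₁ * z⁻¹)⁻¹ := by rw [hz2]
      _ = z * (h₁ * y2 j * h₁⁻¹) * z⁻¹ := by group
      _ = _ := by rw [hD2, ← conj_zpow, hz2]
  have hcross : ∀ b b', (y1 (C.eD b) * y2 (C.eD b')) ^ 2 = 1 := by
    have hA : ∀ b, (y1 (C.eD b) * y2 (C.eD ⟨0, C.hL₁⟩)) ^ 2 = 1 := by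
      intro b
      refine orbit_step C.hL₁ (fun b => (y1 (C.eD b) * y2 (C.eD ⟨0, C.hL₁⟩)) ^ 2 = 1) h7 (fun b ih => ?_) b
      refine sq_conj_unit δD (g := h₁) ?_ (hD2 _) ih
      rw [hh1, hconj, C.sD_apply]
    intro b b'
    revert b
    refine orbit_step C.hL₁ (fun b' => ∀ b, (y1 (C.eD b) * y2 (C.eD b')) ^ 2 = 1) hA (fun b' ih b => ?_) b'
    refine sq_conj_unit δD (g := z * h₁ * z⁻¹) (hD1 _) ?_ (ih b)
    show (z * h₁ * z⁻¹) * (z * y1 (C.eD b') * z⁻¹) * (z * h₁ * z⁻¹)⁻¹ = (z * y1 _ * z⁻¹) ^ (δD : ℤ)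
    rw [show (z * h₁ * z⁻¹) * (z * y1 (C.eD b') * z⁻¹) * (z * h₁ * z⁻¹)⁻¹ =
      z * (h₁ * y1 (C.eD b') * h₁⁻¹) * z⁻¹ by group, hh1, hconj, C.sD_apply, conj_zpow]
  -- the whole family
  let y : Fin m → G := fun j =>
    if h : ∃ i, j = C.e1 i then y1 h.choose else y2 (C.eD ((C.cover j).resolve_left h).choose)
  have ye1 : ∀ i, y (C.e1 i) = y1 i := fun i => by
    have h : ∃ i', C.e1 i = C.e1 i' := ⟨i, rfl⟩
    simp only [y, dif_pos h]
    rw [← C.e1.injective h.choose_spec]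
  have ye2 : ∀ i, y (C.f (C.e1 i)) = y2 i := by
    intro i
    rcases C.split i with ⟨a, rfl⟩ | ⟨b, rfl⟩
    · rw [C.hfC, ye1]; exact (hov a).symm
    · have hn : ¬ ∃ i, C.f (C.e1 (C.eD b)) = C.e1 i := fun ⟨i, hi⟩ => C.out b i hi
      simp only [y, dif_neg hn]
      have hs := ((C.cover (C.f (C.e1 (C.eD b)))).resolve_left hn).choose_spec
      rw [← C.e1.injective (C.f.injective hs)]
  have h3y : ∀ j, y j ^ 3 = 1 := fun j => by
    rcases C.cover j with ⟨i, rfl⟩ | ⟨b, rfl⟩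
    · rw [ye1, ← map_pow, cyc_cube, map_one]
    · rw [ye2]; show (z * φ1 _ * z⁻¹) ^ 3 = 1
      rw [conj_pow, ← map_pow, cyc_cube, map_one]; group
  have p1 : ∀ i j, i ≠ j → (y1 i * y1 j) ^ 2 = 1 := fun i j hij => by
    show (φ1 _ * φ1 _) ^ 2 = 1
    rw [← map_mul, ← map_pow, cyc_pair hij, map_one]
  have p2 : ∀ i j, i ≠ j → (y2 i * y2 j) ^ 2 = 1 := fun i j hij => by
    show (z * y1 i * z⁻¹ * (z * y1 j * z⁻¹)) ^ 2 = 1
    rw [show z * y1 i * z⁻¹ * (z * y1 j * z⁻¹) = z * (y1 i * y1 j) * z⁻¹ by group, conj_pow, p1 i j hij]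
    group
  have mixed : ∀ i b, (y1 i * y2 (C.eD b)) ^ 2 = 1 := by
    intro i b
    rcases C.split i with ⟨a, rfl⟩ | ⟨b', rfl⟩
    · obtain ⟨a', ha'⟩ := C.π_mem a
      have e : y1 (C.eC a) = y2 (C.eC a') := by
        show _ = z * y1 _ * z⁻¹
        rw [hov a', ← ha', C.hπ]
      rw [e]
      exact p2 _ _ (C.disj a' b)
    · exact hcross b' b
  obtain ⟨φ, hφ⟩ := exists_alt_hom (m := m)
    (Nat.one_le_iff_ne_zero.2 fun hm => by subst hm; exact (C.e1 C.i0).elim0) y h3y fun i j hij => by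
      rcases C.cover i with ⟨i', rfl⟩ | ⟨b, rfl⟩ <;> rcases C.cover j with ⟨j', rfl⟩ | ⟨b', rfl⟩
      · rw [ye1, ye1]; exact p1 _ _ fun e => hij (e ▸ rfl)
      · rw [ye1, ye2]; exact mixed _ _
      · rw [ye1, ye2]; exact sq_flip (mixed _ _)
      · rw [ye2, ye2]; exact p2 _ _ fun e => hij (e ▸ rfl)
  set H := φ.range
  have hy1H : ∀ i, y1 i ∈ H := fun i => ⟨cyc (C.e1 i), by rw [hφ, ye1]⟩
  have hy2H : ∀ i, y2 i ∈ H := fun i => ⟨cyc (C.f (C.e1 i)), by rw [hφ, ye2]⟩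
  have hφ1H : ∀ x, φ1 x ∈ H := fun x => by
    have : φ1.range ≤ H := by
      rw [MonoidHom.range_eq_map, ← closure_cyc p, MonoidHom.map_closure, Subgroup.closure_le]
      rintro _ ⟨_, ⟨i, rfl⟩, rfl⟩
      exact hy1H i
    exact this ⟨x, rfl⟩
  have hnorm : ∀ g ∈ H, z * g * z⁻¹ ∈ H := by
    have hle : H ≤ H.comap (MulAut.conj z).toMonoidHom := by
      rw [show H = φ.range from rfl, MonoidHom.range_eq_map, ← closure_cyc m, MonoidHom.map_closure,
        Subgroup.closure_le]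
      rintro _ ⟨_, ⟨j, rfl⟩, rfl⟩
      rw [SetLike.mem_coe, Subgroup.mem_comap, ← MonoidHom.map_closure, closure_cyc, ← MonoidHom.range_eq_map]
      show z * φ (cyc j) * z⁻¹ ∈ H
      rw [hφ]
      rcases C.cover j with ⟨i, rfl⟩ | ⟨b, rfl⟩
      · rw [ye1]; exact hy2H i
      · rw [ye2, hz2]; exact hy1H _
    exact fun g hg => hle hg
  have hnorm' : ∀ g, z * g * z⁻¹ ∈ H → g ∈ H := fun g hg => by
    have := hnorm _ hg
    rwa [show z * (z * g * z⁻¹) * z⁻¹ = (z * z) * g * (z * z)⁻¹ by group, hzz, one_mul, inv_one, mul_one] at this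
  have hXH : C.Xv even r s w ∈ H := by
    have := H.mul_mem (H.inv_mem (hφ1H (evenExt (C.π * C.sC * C.π)))) (hnorm _ (hφ1H (evenExt C.sC)))
    rwa [h5, inv_mul_cancel_left] at this
  have hrσ : r * σ ∈ H := by
    refine hnorm' _ ?_
    have := H.mul_mem (H.inv_mem (hφ1H (evenExt C.sD))) (H.mul_mem (hnorm _ (hφ1H (evenExt C.R)))
      (hφ1H (evenExt C.sD)))
    rwa [← h6, inv_mul_cancel_left] at this
  have hcH : c ∈ H := by rw [← hφ0]; exact hy1H _
  have hσH : σ ∈ H ∧ (even = true → z ∈ H) := by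
    cases even with
    | false => exact ⟨by simpa [Xv, hσdef] using hXH, fun e => by simp at e⟩
    | true =>
      have hWH : C.Wv r w ∈ H := by
        refine H.mul_mem (by rw [hv]; exact hφ1H _) (H.list_prod_mem ?_)
        intro x hx
        obtain ⟨b, -, rfl⟩ := List.mem_map.1 hx
        rw [Tv, hv, hv]
        exact H.mul_mem (H.mul_mem (hφ1H _) (hnorm _ (hφ1H _))) (hφ1H _)
      have hσz : σ * z ∈ H := by
        have := H.mul_mem hXH (H.inv_mem hWH)
        simp only [Xv, if_true, ← hσdef, ← hz] at this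
        rwa [← mul_assoc σ, mul_inv_cancel_right] at this
      have hrz : r * z ∈ H := by
        have := H.mul_mem hrσ (hnorm _ (H.inv_mem hσz))
        rwa [show r * σ * (z * (σ * z)⁻¹ * z⁻¹) = r * σ * (z * z⁻¹) * (σ⁻¹ * z⁻¹) by group, mul_inv_cancel,
          mul_one, show r * σ * (σ⁻¹ * z⁻¹) = r * z⁻¹ by group, hzi] at this
      have hr2 : r * r ∈ H := by
        have := H.mul_mem hrz (hnorm _ hrz)
        rwa [show r * z * (z * (r * z) * z⁻¹) = r * (z * z) * r by group, hzz, mul_one] at this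
      have hrH : r ∈ H := by
        obtain ⟨t, ht⟩ := hp.odd_of_ne_two hp2
        have h' : r * (r * r) ^ t = 1 := by rw [← sq, ← pow_mul, ← pow_succ', ← ht, hrp]
        rw [eq_inv_of_mul_eq_one_left h']
        exact H.inv_mem (H.pow_mem hr2 t)
      have hσ' : σ ∈ H := by
        have := H.mul_mem (H.inv_mem hrH) hrσ
        rwa [inv_mul_cancel_left] at this
      refine ⟨hσ', fun _ => ?_⟩
      have := H.mul_mem (H.inv_mem hσ') hσz
      rwa [inv_mul_cancel_left] at this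
  refine ⟨φ, hzz, hnorm, ?_, ?_, hcH, hσH.2⟩
  · have := H.mul_mem hrσ (H.inv_mem hσH.1)
    rwa [mul_inv_cancel_right] at this
  · have := H.mul_mem hσH.1 (hφ1H (evenExt C.S))
    rwa [hσdef, σv, hv, inv_mul_cancel_right] at this

end TwoCfg

end CfsgLib.Lie.BoundedPres
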